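/-
The forty points of the symplectic four-space over three elements as numbers below eighty-one, with the action
of their transvections on one another.
-/
import Cfsg.Agent.Lib.U42.Checks

set_option autoImplicit false
set_option maxRecDepth 100000

namespace CfsgLib.U42Act

open U42

/-- A digit. -/
def dig (n i : ℕ) : ℕ := n / 3 ^ i % 3

/-- The symplectic form. -/
def bil (w u : ℕ) : ℕ :=
  (dig w 0 * (2 * dig u 2) + dig w 1 * (2 * dig u 3) + dig w 2 * dig u 0 + dig w 3 * dig u 1) % 3

/-- The image of a vector under a transvection. -/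
def act (u w : ℕ) : ℕ :=
  let s := fun i => (dig w i + bil w u * dig u i) % 3
  s 0 + 3 * (s 1 + 3 * (s 2 + 3 * s 3))

/-- The points of the standard line. -/
def lineP : List ℕ := [1, 3, 4, 5]

/-- The code of the transvection at a vector. -/
def tc (n : ℕ) : List ℕ := tcode n 1

theorem cube_rel : ((List.range 81).all fun n => mul3L (tc n) (mul3L (tc n) (tc n)) == oneL &&
    mul3L (tc n) (tc n) == tcode n 2 && tcode n 0 == oneL) = true := by decide +kernel

theorem line_rel : mul3L (tc 1) (mul3L (tc 3) (mul3L (tc 4) (tc 5))) = oneL := by decide +kernel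

theorem line_comm : (lineP.all fun u => lineP.all fun w => mul3L (tc u) (tc w) == mul3L (tc w) (tc u)) = true := by
  decide +kernel

theorem perp_point : ((List.range 81).all fun n => lineP.any fun x =>
    mul3L (tc n) (tc x) == mul3L (tc x) (tc n)) = true := by decide +kernel

theorem not_central : (mul3L (tc 1) (tc 9) == mul3L (tc 9) (tc 1)) = false := by decide +kernel

/-- The permutations of the line, as pairs of transvections with the permutation they induce. -/
def swaps : List (ℕ × ℕ × List ℕ) :=
  [(36, 44, [1, 0, 2, 3]), (9, 16, [2, 1, 0, 3]), (9, 13, [3, 1, 2, 0]), (27, 32, [0, 2, 1, 3]),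
    (27, 31, [0, 3, 2, 1]), (9, 10, [0, 1, 3, 2])]

theorem swaps_rel : (swaps.all fun s => (List.range 4).all fun i =>
    let x := lineP.getD i 0
    let y := act s.1 x
    Nat.blt s.1 81 && Nat.blt s.2.1 81 && mul3L (tc s.1) (tc x) == mul3L (tc y) (tc s.1) &&
      mul3L (tc s.2.1) (tc y) == mul3L (tc (lineP.getD (s.2.2.getD i 0) 0)) (tc s.2.1)) = true := by
  decide +kernel

end CfsgLib.U42Act
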