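/-
Generators of the projective symplectic group in dimension four over three elements: transvections with their
relations on a totally isotropic line.
-/
import Cfsg.Agent.Lib.U42.Main
import Cfsg.Agent.Lib.U42Act.Num

set_option autoImplicit false
set_option maxRecDepth 100000

namespace CfsgLib.U42Act

open U42 Matrix

/-- The relations among the images of the transvections used in the decomposition. -/
structure Gens {X : Type*} [Group X] (τ : ℕ → X) : Prop where
  cube : ∀ n < 81, τ n * (τ n * τ n) = 1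
  line : τ 1 * (τ 3 * (τ 4 * τ 5)) = 1
  comm : ∀ u ∈ lineP, ∀ w ∈ lineP, Commute (τ u) (τ w)
  perp : ∀ n < 81, ∃ x ∈ lineP, Commute (τ n) (τ x)
  swap : ∀ s ∈ swaps, ∀ i < 4,
    τ s.2.1 * τ s.1 * τ (lineP.getD i 0) = τ (lineP.getD (s.2.2.getD i 0) 0) * (τ s.2.1 * τ s.1)
  gen : Subgroup.closure (τ '' Set.Iio 81) = ⊤
  nc : ¬ Commute (τ 1) (τ 9)

theorem exists_gens {F : Type*} [Field F] [Fintype F] (hF : Fintype.card F = 3) :
    ∃ τ : ℕ → Cfsg.PSp 2 F, Gens τ := by
  classical
  haveI : Fact (Nat.Prime 3) := ⟨Nat.prime_three⟩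
  haveI : CharP F 3 := charP_of_card_eq_prime_pow (f := 1) (by rw [hF]; norm_num)
  let vec : ℕ → I2 → F := fun n i => ((n / 3 ^ num i % 3 : ℕ) : F)
  let t : ℕ → ℕ → Matrix.symplecticGroup (Fin 2) F := fun n c => SympTransvection.tv (vec n) (c : F)
  have tv : ∀ n c, ((t n c) : Matrix I2 I2 F) = m3 (tcode n c) := fun n c => (m3_tcode n c).symm
  have t1 : ∀ n, ((t n 1) : Matrix I2 I2 F) = m3 (tc n) := fun n => tv n 1
  let π := QuotientGroup.mk' (Subgroup.center (Matrix.symplecticGroup (Fin 2) F))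
  let τ : ℕ → Cfsg.PSp 2 F := fun n => π (t n 1)
  have rel2 : ∀ {a b c d : ℕ}, mul3L (tc a) (tc b) = mul3L (tc c) (tc d) → t a 1 * t b 1 = t c 1 * t d 1 :=
    fun {a b c d} h => Subtype.ext (by
      show (t a 1 : Matrix I2 I2 F) * (t b 1 : Matrix I2 I2 F) = (t c 1 : Matrix I2 I2 F) * (t d 1 : Matrix I2 I2 F)
      rw [t1, t1, t1, t1, ← m3_mul, ← m3_mul, h])
  have pcomm : ∀ {a b : ℕ}, mul3L (tc a) (tc b) = mul3L (tc b) (tc a) → Commute (τ a) (τ b) := fun {a b} h => by
    show π (t a 1) * π (t b 1) = π (t b 1) * π (t a 1)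
    rw [← map_mul, ← map_mul, rel2 h]
  have hcube : ∀ n < 81, t n 1 * (t n 1 * t n 1) = 1 ∧ t n 1 * t n 1 = t n 2 ∧ t n 0 = 1 := by
    intro n hn
    have h := List.all_eq_true.mp cube_rel n (List.mem_range.mpr hn)
    simp only [Bool.and_eq_true, beq_iff_eq] at h
    refine ⟨Subtype.ext ?_, Subtype.ext ?_, Subtype.ext ?_⟩
    · show (t n 1 : Matrix I2 I2 F) * ((t n 1 : Matrix I2 I2 F) * (t n 1 : Matrix I2 I2 F)) = 1
      rw [t1, ← m3_mul, ← m3_mul, h.1.1, m3_one]
    · show (t n 1 : Matrix I2 I2 F) * (t n 1 : Matrix I2 I2 F) = _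
      rw [t1, tv, ← m3_mul, h.1.2]
    · show (t n 0 : Matrix I2 I2 F) = 1
      rw [tv, h.2, m3_one]
  refine ⟨τ, ⟨fun n hn => ?_, ?_, fun u hu w hw => pcomm ?_, fun n hn => ?_, fun s hs i hi => ?_, ?_, ?_⟩⟩
  · show π _ * (π _ * π _) = 1
    rw [← map_mul, ← map_mul, (hcube n hn).1, map_one]
  · show π _ * (π _ * (π _ * π _)) = 1
    rw [← map_mul, ← map_mul, ← map_mul, show t 1 1 * (t 3 1 * (t 4 1 * t 5 1)) = 1 from Subtype.ext (by
      show (t 1 1 : Matrix I2 I2 F) * ((t 3 1 : Matrix I2 I2 F) * ((t 4 1 : Matrix I2 I2 F) * (t 5 1 : Matrix I2 I2 F))) = 1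
      rw [t1, t1, t1, t1, ← m3_mul, ← m3_mul, ← m3_mul, line_rel, m3_one]), map_one]
  · exact beq_iff_eq.mp (List.all_eq_true.mp (List.all_eq_true.mp line_comm u hu) w hw)
  · obtain ⟨x, hx, h⟩ := List.any_eq_true.mp (List.all_eq_true.mp perp_point n (List.mem_range.mpr hn))
    exact ⟨x, hx, pcomm (beq_iff_eq.mp h)⟩
  · have h := List.all_eq_true.mp (List.all_eq_true.mp swaps_rel s hs) i (List.mem_range.mpr hi)
    simp only [Bool.and_eq_true, beq_iff_eq] at h
    show π _ * π _ * π _ = π _ * (π _ * π _)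
    simp only [← map_mul]; rw [mul_assoc, rel2 h.1.2, ← mul_assoc, rel2 h.2, mul_assoc]
  · rw [eq_top_iff]
    have ht : Subgroup.closure {A : Matrix.symplecticGroup (Fin 2) F | ∃ (w : I2 → F) (c : F),
        (A : Matrix I2 I2 F) = Cfsg.sympTransvection 2 w c} = ⊤ := Cfsg.Agent.S0765.result 2
    calc (⊤ : Subgroup (Cfsg.PSp 2 F)) = Subgroup.map π ⊤ :=
          (Subgroup.map_top_of_surjective π (QuotientGroup.mk'_surjective _)).symm
      _ ≤ _ := ?_
    rw [← ht, MonoidHom.map_closure, Subgroup.closure_le]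
    rintro _ ⟨A, ⟨w, c, hA⟩, rfl⟩
    have hsurj : ∀ x : F, ∃ a < 3, ((a : ℕ) : F) = x := by
      have hinj : Function.Injective (fun a : Fin 3 => ((a : ℕ) : F)) := fun a b h => by
        rw [CharP.natCast_eq_natCast F 3] at h
        exact Fin.ext (by have := a.2; have := b.2; unfold Nat.ModEq at h; omega)
      have hb := (Fintype.bijective_iff_injective_and_card _).mpr ⟨hinj, by simp [hF]⟩
      intro x
      obtain ⟨a, ha⟩ := hb.2 x
      exact ⟨a, a.2, ha⟩
    obtain ⟨c', hc', rfl⟩ := hsurj c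
    choose a ha hav using fun i => hsurj (w i)
    let n := a (.inl 0) + 3 * a (.inl 1) + 9 * a (.inr 0) + 27 * a (.inr 1)
    have hn : n < 81 := by
      have := ha (.inl 0); have := ha (.inl 1); have := ha (.inr 0); have := ha (.inr 1)
      simp only [n]; omega
    have hw : w = vec n := by
      funext i
      rw [← hav i]
      show (a i : F) = ((n / 3 ^ num i % 3 : ℕ) : F)
      congr 1
      have := ha (.inl 0); have := ha (.inl 1); have := ha (.inr 0); have := ha (.inr 1)
      rcases i with i | i <;> fin_cases i <;> simp [num, n] <;> omega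
    have hA' : A = t n c' := Subtype.ext (by rw [hA, hw]; rfl)
    subst hA'
    have hm : τ n ∈ Subgroup.closure (τ '' Set.Iio 81) := Subgroup.subset_closure ⟨n, hn, rfl⟩
    interval_cases c'
    · show π (t n 0) ∈ _
      rw [(hcube n hn).2.2, map_one]; exact one_mem _
    · exact hm
    · show π (t n 2) ∈ _
      rw [← (hcube n hn).2.1, map_mul]; exact mul_mem hm hm
  · intro h
    have h' : π (t 1 1 * t 9 1) = π (t 9 1 * t 1 1) := by rw [map_mul, map_mul]; exact h
    obtain ⟨c, hc, e⟩ := (QuotientGroup.mk'_eq_mk' _).mp h'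
    have h3 : t 1 1 * (t 1 1 * t 1 1) = 1 := (hcube 1 (by norm_num)).1
    have hne : t 1 1 * t 9 1 ≠ t 9 1 * t 1 1 := fun e' => by
      have e2 : (m3 (mul3L (tc 1) (tc 9)) : Matrix I2 I2 F) = m3 (mul3L (tc 9) (tc 1)) := by
        rw [m3_mul, m3_mul, ← t1, ← t1]; exact congrArg Subtype.val e'
      have key : ∀ k < 16, (mul3L (tc 1) (tc 9)).getD k 0 = (mul3L (tc 9) (tc 1)).getD k 0 := by
        intro k hk
        have hx : ∀ i < 4, ∃ x : I2, num x = i := fun i hi => by
          interval_cases i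
          exacts [⟨.inl 0, rfl⟩, ⟨.inl 1, rfl⟩, ⟨.inr 0, rfl⟩, ⟨.inr 1, rfl⟩]
        obtain ⟨x, hx1⟩ := hx (k / 4) (by omega)
        obtain ⟨y, hy1⟩ := hx (k % 4) (by omega)
        have e3 := congrFun (congrFun e2 x) y
        simp only [m3, Matrix.of_apply, U42.e, hx1, hy1, show 4 * (k / 4) + k % 4 = k by omega] at e3
        rw [CharP.natCast_eq_natCast F 3, Nat.ModEq] at e3
        have hlt : ∀ A B : List ℕ, (mul3L A B).getD k 0 < 3 := fun A B => by
          rw [mul3L, List.getD_eq_getElem?_getD, List.getElem?_map, List.getElem?_range hk]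
          exact Nat.mod_lt _ (by norm_num)
        have := hlt (tc 1) (tc 9); have := hlt (tc 9) (tc 1)
        omega
      have : mul3L (tc 1) (tc 9) = mul3L (tc 9) (tc 1) := List.ext_getElem (by simp [mul3L]) fun k hk hk' => by
        have := key k (by simpa [mul3L] using hk)
        simpa [List.getD_eq_getElem?_getD, List.getElem?_eq_getElem hk, List.getElem?_eq_getElem hk'] using this
      have h0 := not_central
      rw [this] at h0
      simp at h0
    -- a central commutator of elements of order three is trivial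
    have cc := Subgroup.mem_center_iff.mp hc
    have e1 : t 9 1 * t 1 1 = t 1 1 * t 9 1 * c := e.symm
    have e2 : t 9 1 * (t 1 1 * (t 1 1 * t 1 1)) = t 1 1 * (t 1 1 * t 1 1) * t 9 1 * (c * (c * c)) := by
      calc t 9 1 * (t 1 1 * (t 1 1 * t 1 1)) = t 9 1 * t 1 1 * (t 1 1 * t 1 1) := by group
        _ = t 1 1 * t 9 1 * c * (t 1 1 * t 1 1) := by rw [e1]
        _ = t 1 1 * (t 9 1 * (t 1 1 * t 1 1)) * c := by
          rw [mul_assoc (t 1 1 * t 9 1) c, ← cc (t 1 1 * t 1 1)]; group
        _ = t 1 1 * (t 1 1 * t 9 1 * c * t 1 1) * c := by rw [← mul_assoc (t 9 1), e1]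
        _ = t 1 1 * t 1 1 * (t 9 1 * t 1 1) * (c * c) := by
          rw [mul_assoc (t 1 1 * t 9 1) c, ← cc (t 1 1)]; group
        _ = _ := by rw [e1]; group
    rw [h3, mul_one, one_mul, left_eq_mul] at e2
    have hc2 : c * c = 1 := by
      have := Subgroup.card_le_of_le (le_refl (Subgroup.center (Matrix.symplecticGroup (Fin 2) F)))
      have h2 : Nat.card (Subgroup.center (Matrix.symplecticGroup (Fin 2) F)) = 2 := by
        rw [SympTransvection.card_center (by norm_num), hF]; rfl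
      have := pow_card_eq_one' (G := Subgroup.center (Matrix.symplecticGroup (Fin 2) F)) (x := ⟨c, hc⟩)
      rw [h2, pow_two] at this
      exact congrArg Subtype.val this
    rw [hc2, mul_one] at e2
    rw [e2, mul_one] at e1
    exact hne e1.symm

end CfsgLib.U42Act
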