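/-
The stabiliser of the first vector in breadth-first order from two generators.
-/
import Mathlib.Init

set_option autoImplicit false
set_option maxRecDepth 10000

namespace CfsgLib.U42Act

/-- The order of discovery. -/
def stOrd : List Nat :=
  [0, 46, 180, 151, 23, 105, 114, 83, 174, 42, 13, 157, 26, 132, 51, 167, 127, 104, 145, 17, 62, 74, 89,
    161, 39, 95, 138, 6, 118, 97, 137, 14, 156, 68, 85, 170, 133, 11, 38, 188, 59, 175, 103, 158, 32, 61,
    171, 78, 191, 55, 30, 130, 7, 80, 77, 181, 75, 88, 178, 53, 163, 121, 108, 94, 65, 176, 58, 29, 122, 128,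
    16, 126, 1, 147, 73, 90, 165, 35, 12, 120, 109, 34, 186, 98, 140, 4, 33, 91, 70, 54, 50, 164, 185, 115,
    37, 189, 60, 116, 142, 2, 112, 101, 141, 10, 154, 45, 111, 131, 166, 20, 183, 63, 24, 136, 184, 87, 172,
    99, 152, 177, 57, 18, 9, 155, 27, 124, 148, 72, 187, 28, 173, 44, 143, 117, 102, 25, 96, 123, 129, 15,
    49, 134, 3, 86, 179, 79, 150, 153, 71, 119, 169, 47, 106, 113, 41, 81, 76, 125, 5, 149, 92, 110, 162, 22,
    67, 40, 190, 100, 107, 19, 84, 31, 146, 160, 8, 69, 182, 64, 93, 66, 52, 56, 82, 43, 135, 144, 36, 21,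
    139, 168, 159, 48]

/-- Generator and position of the parent. -/
def stPar : List (Nat × Nat) :=
  [(0, 0), (0, 0), (1, 0), (0, 1), (1, 1), (0, 2), (1, 2), (1, 3), (0, 4), (1, 4), (0, 5), (1, 5), (0, 6),
    (1, 6), (0, 7), (1, 7), (0, 8), (1, 8), (0, 9), (1, 9), (1, 10), (0, 11), (1, 11), (0, 12), (1, 12), (0,
    13), (0, 14), (1, 14), (0, 15), (1, 15), (1, 16), (0, 17), (1, 17), (0, 18), (1, 18), (0, 19), (0, 20),
    (1, 20), (0, 21), (1, 21), (0, 22), (1, 22), (1, 23), (0, 24), (1, 24), (0, 25), (1, 25), (1, 26), (0,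
    27), (1, 27), (0, 28), (1, 28), (0, 29), (0, 30), (1, 30), (0, 31), (0, 32), (1, 32), (1, 33), (0, 34),
    (1, 34), (0, 35), (1, 35), (0, 36), (1, 36), (0, 37), (1, 37), (1, 38), (1, 39), (0, 40), (1, 40), (0,
    41), (0, 42), (1, 42), (0, 43), (1, 43), (0, 44), (1, 44), (1, 45), (0, 46), (1, 46), (0, 47), (1, 47),
    (0, 48), (0, 49), (1, 49), (1, 50), (0, 51), (1, 51), (1, 52), (0, 53), (1, 53), (1, 54), (1, 55), (0,
    56), (1, 56), (0, 57), (1, 58), (0, 59), (1, 59), (0, 60), (1, 60), (1, 61), (0, 62), (1, 62), (0, 64),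
    (0, 65), (0, 66), (0, 67), (0, 68), (0, 70), (1, 70), (0, 71), (1, 71), (0, 72), (1, 73), (1, 75), (1,
    76), (0, 77), (0, 78), (1, 78), (0, 79), (0, 80), (1, 80), (1, 81), (1, 82), (1, 83), (1, 84), (0, 85),
    (1, 86), (1, 87), (0, 88), (0, 89), (0, 91), (0, 92), (0, 93), (0, 95), (1, 95), (0, 96), (1, 96), (1,
    99), (1, 100), (0, 101), (0, 102), (0, 103), (0, 104), (0, 105), (1, 106), (1, 107), (0, 108), (0, 109),
    (1, 109), (0, 110), (1, 110), (1, 112), (0, 113), (1, 113), (0, 116), (0, 117), (1, 117), (1, 118), (0,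
    119), (0, 124), (0, 125), (0, 126), (0, 127), (1, 127), (0, 128), (1, 130), (1, 131), (0, 132), (0, 133),
    (1, 134), (0, 135), (0, 136), (1, 138), (0, 139), (1, 139), (0, 141), (1, 141), (1, 142), (0, 143), (1,
    146), (0, 148), (1, 153), (0, 154), (0, 156), (0, 157), (1, 157), (1, 160), (0, 165), (1, 169)]

end CfsgLib.U42Act
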