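/-
The codes of the unitary group form a group, and an isometry commuting with the scalars is a scalar multiple
of one of them.
-/
import Cfsg.Agent.Lib.U6Rec.Group
import Cfsg.Agent.Lib.U42Act.StData

set_option autoImplicit false
set_option maxRecDepth 100000

namespace CfsgLib.U42Act

open U6Rec

/-- The code of a scalar. -/
def scl (c : ℕ) : ℕ := pack fun i => smul4 c (1 <<< i)

/-- One of the generators of the stabiliser. -/
def stA (k : ℕ) : ℕ := [46, 180].getD k 0

theorem stPar_ok : ((List.range 192).all fun n => Nat.beq n 0 ||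
    (let p := stPar.getD n (0, 0)
     Nat.blt p.1 2 && Nat.blt p.2 n &&
      Nat.beq (comp (st (stA p.1)) (st (stOrd.getD p.2 0))) (st (stOrd.getD n 0)))) = true := by decide +kernel

theorem stOrd_ok : ((List.range 192).all fun j => stOrd.elem j) = true ∧ stOrd.length = 192 ∧ stOrd.getD 0 1 = 0 ∧
    (stOrd.all fun j => Nat.blt j 192) = true := by decide +kernel

theorem stA_step : ((List.range 2).all fun k => (List.range 192).all fun j =>
    (List.range 192).any fun m => Nat.beq (comp (st (stA k)) (st j)) (st m)) = true := by decide +kernel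

/-- The product with a generator is a member. -/
def memOK (g : ℕ) : Bool :=
  (List.range 135).any fun m => bif Nat.beq (app (rep m) 1) (app g 1) then
    (List.range 192).any fun j => Nat.beq g (elt (m, j)) else false

theorem gen_step : ((List.range 5).all fun k => (List.range 135).all fun i => memOK (comp (gen k) (rep i))) = true := by
  decide +kernel

theorem st_closed {a b : ℕ} (ha : a < 192) (hb : b < 192) : ∃ m < 192, comp (st a) (st b) = st m := by
  have main : ∀ n < 192, ∀ b < 192, ∃ m < 192, comp (st (stOrd.getD n 0)) (st b) = st m := by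
    intro n
    induction n using Nat.strong_induction_on with
    | _ n ih =>
      intro hn b hb
      by_cases h0 : n = 0
      · subst h0
        refine ⟨b, hb, ?_⟩
        rw [show stOrd.getD 0 0 = 0 from by decide +kernel, rep_first.2.2.1, ← st_form b, one_comp]
      · have h := List.all_eq_true.mp stPar_ok n (List.mem_range.mpr hn)
        rw [Bool.or_eq_true, Bool.and_eq_true, Bool.and_eq_true, Nat.beq_eq, Nat.beq_eq, Nat.blt_eq, Nat.blt_eq] at h
        obtain ⟨⟨hk, hp⟩, e⟩ := h.resolve_left h0
        obtain ⟨m, hm, em⟩ := ih _ hp (by omega) b hb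
        obtain ⟨m', hm', em'⟩ := List.any_eq_true.mp
          (List.all_eq_true.mp (List.all_eq_true.mp stA_step _ (List.mem_range.mpr hk)) m (List.mem_range.mpr hm))
        exact ⟨m', List.mem_range.mp hm', by rw [← e, comp_assoc, em]; exact Nat.eq_of_beq_eq_true em'⟩
  obtain ⟨n, hn, e⟩ := List.mem_iff_getElem.mp (List.mem_of_elem_eq_true
    (List.all_eq_true.mp stOrd_ok.1 a (List.mem_range.mpr ha)))
  have hn' : n < 192 := by rw [stOrd_ok.2.1] at hn; exact hn
  have := main n hn' b hb
  rwa [List.getD_eq_getElem?_getD, List.getElem?_eq_getElem hn, Option.getD_some, e] at this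

theorem gen_left {k : ℕ} (hk : k < 5) {g : ℕ} (hg : InU g) : InU (comp (gen k) g) := by
  obtain ⟨i, j, hi, hj, rfl⟩ := hg
  obtain ⟨m, hm, h⟩ := List.any_eq_true.mp
    (List.all_eq_true.mp (List.all_eq_true.mp gen_step k (List.mem_range.mpr hk)) i (List.mem_range.mpr hi))
  cases e : Nat.beq (app (rep m) 1) (app (comp (gen k) (rep i)) 1) with
  | false => simp [e] at h
  | true =>
    rw [e, cond_true, List.any_eq_true] at h
    obtain ⟨j', hj', e'⟩ := h
    obtain ⟨m', hm', em⟩ := st_closed (List.mem_range.mp hj') hj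
    refine ⟨m, m', List.mem_range.mp hm, hm', ?_⟩
    show comp (gen k) (comp (rep i) (st j)) = comp (rep m) (st m')
    rw [← em, ← comp_assoc, Nat.eq_of_beq_eq_true e', ← comp_assoc]
    rfl

theorem inU_word : ∀ w : List ℕ, (∀ k ∈ w, k < 5) → ∀ g, InU g → InU (comp (evalW w) g)
  | [], _, g, hg => by rw [evalW, ← hg.form, one_comp, hg.form]; exact hg
  | k :: w, h, g, hg => by
    rw [evalW, comp_assoc]
    exact gen_left (h k List.mem_cons_self) (inU_word w (fun m hm => h m (List.mem_cons_of_mem _ hm)) g hg)

theorem elt_word {g : ℕ} (hg : InU g) : ∃ w, (∀ k ∈ w, k < 5) ∧ g = evalW w := by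
  obtain ⟨i, j, hi, hj, rfl⟩ := hg
  have r := List.all_eq_true.mp words_rep i (List.mem_range.mpr hi)
  have s := List.all_eq_true.mp words_st j (List.mem_range.mpr hj)
  rw [Bool.and_eq_true, Nat.beq_eq, List.all_eq_true] at r s
  refine ⟨repW.getD i [] ++ stW.getD j [], fun k hk => ?_, ?_⟩
  · rcases List.mem_append.mp hk with h | h
    · exact of_decide_eq_true (r.2 k h)
    · exact of_decide_eq_true (s.2 k h)
  · have e : ∀ a b : List ℕ, evalW (a ++ b) = comp (evalW a) (evalW b) := by
      intro a b
      induction a with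
      | nil => rw [List.nil_append, evalW, ← evalW_form' b, one_comp, evalW_form' b]
      | cons x a ih => rw [List.cons_append, evalW, ih, evalW, comp_assoc]
    rw [e, r.1, s.1]
    rfl
where
  evalW_form' : ∀ w : List ℕ, comp (evalW w) one = evalW w
    | [] => one_one
    | k :: w => by rw [evalW, comp_assoc, evalW_form' w]

/-- The codes are closed under composition. -/
theorem inU_comp {g h : ℕ} (hg : InU g) (hh : InU h) : InU (comp g h) := by
  obtain ⟨w, hw, rfl⟩ := elt_word hg
  exact inU_word w hw h hh

theorem gen_invol : ((List.range 5).all fun k => Nat.beq (comp (gen k) (gen k)) one) = true := by decide +kernel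

theorem inU_inv {g : ℕ} (hg : InU g) : ∃ h, InU h ∧ comp h g = one := by
  obtain ⟨w, hw, rfl⟩ := elt_word hg
  clear hg
  induction w with
  | nil => exact ⟨one, inU_one, one_one⟩
  | cons k w ih =>
    obtain ⟨h, hh, e⟩ := ih fun m hm => hw m (List.mem_cons_of_mem _ hm)
    have hk := hw k List.mem_cons_self
    have hg : InU (gen k) := by
      have := gen_left hk inU_one
      rwa [show comp (gen k) one = gen k from
        (show ∀ k < 5, comp (gen k) one = gen k by decide +kernel) k hk] at this
    refine ⟨comp h (gen k), inU_comp hh hg, ?_⟩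
    have e2 := Nat.eq_of_beq_eq_true (List.all_eq_true.mp gen_invol k (List.mem_range.mpr hk))
    rw [evalW, comp_assoc, ← comp_assoc (gen k), e2, ← elt_word.evalW_form' w, one_comp, elt_word.evalW_form' w, e]

/-- Index of the representative moving the first vector to a multiple. -/
def scI (c : ℕ) : ℕ := (List.range 135).findIdx fun i => Nat.beq (app (rep i) 1) c

theorem scI_ok : scI 2 < 135 ∧ scI 3 < 135 := by decide +kernel

/-- The isometries fixing the first vector. -/
def stabCand : List ℕ :=
  let f := fun v => Nat.beq (qf v) 0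
  ((List.range 256).filter fun a => f a && Nat.beq (herm a 1) (herm 4 1)).flatMap fun a =>
  ((List.range 256).filter fun b => f b && Nat.beq (herm b 1) (herm 16 1) && Nat.beq (herm a b) (herm 4 16)).flatMap fun b =>
  ((List.range 256).filter fun d => f d && Nat.beq (herm d 1) (herm 64 1) && Nat.beq (herm a d) (herm 4 64) &&
      Nat.beq (herm b d) (herm 16 64)).map fun d =>
    pack fun i => [1, 2, a, smul4 2 a, b, smul4 2 b, d, smul4 2 d].getD i 0

/-- The expected members. -/
def stabList : List ℕ :=
  stL ++ ((List.range 192).map fun j => comp (scl 3) (elt (scI 2, j))) ++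
    ((List.range 192).map fun j => comp (scl 2) (elt (scI 3, j)))

theorem stab_cand : (stabCand.all fun g => stabList.elem g) = true := by decide +kernel

theorem qf_basis : qf 4 = 0 ∧ qf 16 = 0 ∧ qf 64 = 0 := by decide +kernel

theorem basis_smul : smul4 2 1 = 2 ∧ smul4 2 4 = 8 ∧ smul4 2 16 = 32 ∧ smul4 2 64 = 128 := by decide +kernel

theorem unit_stab {g : ℕ} (hg : Unit4 g) (hf : comp g one = g) (h1 : app g 1 = 1) : g ∈ stabList := by
  have e : g = pack fun i => [1, 2, app g 4, smul4 2 (app g 4), app g 16, smul4 2 (app g 16), app g 64,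
      smul4 2 (app g 64)].getD i 0 := by
    conv_lhs => rw [← hf]
    simp only [comp, pack]
    have hb : ∀ i < 8, (one >>> (8 * i)) &&& 255 = 1 <<< i := by decide
    rw [hb 0 (by omega), hb 1 (by omega), hb 2 (by omega), hb 3 (by omega), hb 4 (by omega), hb 5 (by omega),
      hb 6 (by omega), hb 7 (by omega)]
    have s := fun v (hv : v < 256) => hg.smul_app 2 v (by norm_num) hv
    have a1 := s 1 (by norm_num); have a4 := s 4 (by norm_num); have a16 := s 16 (by norm_num)
    have a64 := s 64 (by norm_num)
    rw [basis_smul.1, h1] at a1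
    rw [basis_smul.2.1] at a4
    rw [basis_smul.2.2.1] at a16
    rw [basis_smul.2.2.2] at a64
    rw [basis_smul.1] at a1
    norm_num [Nat.shiftLeft_eq, h1, a1, a4, a16, a64]
  have hm : g ∈ stabCand := by
    have hh : ∀ u v, u < 256 → v < 256 → herm (app g u) (app g v) = herm u v := hg.herm_app
    have hq : ∀ v, v < 256 → qf (app g v) = qf v := fun v hv => hg.qf_app hv
    simp only [stabCand, List.mem_flatMap, List.mem_map, List.mem_filter, List.mem_range, Bool.and_eq_true, Nat.beq_eq]
    refine ⟨app g 4, ⟨app_lt _ _, (hq 4 (by norm_num)).trans qf_basis.1,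
        by conv_lhs => rw [← h1]
           exact hh 4 1 (by norm_num) (by norm_num)⟩,
      app g 16, ⟨app_lt _ _, ⟨(hq 16 (by norm_num)).trans qf_basis.2.1,
        by conv_lhs => rw [← h1]
           exact hh 16 1 (by norm_num) (by norm_num)⟩, hh 4 16 (by norm_num) (by norm_num)⟩,
      app g 64, ⟨app_lt _ _, ⟨⟨(hq 64 (by norm_num)).trans qf_basis.2.2,
        by conv_lhs => rw [← h1]
           exact hh 64 1 (by norm_num) (by norm_num)⟩, hh 4 64 (by norm_num) (by norm_num)⟩,
        hh 16 64 (by norm_num) (by norm_num)⟩, e.symm⟩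
  exact List.mem_of_elem_eq_true (List.all_eq_true.mp stab_cand g hm)

theorem scl_app : ∀ c < 4, ∀ v < 256, app (scl c) v = smul4 c v := by decide +kernel

theorem scl_form : ∀ c < 4, comp (scl c) one = scl c := by decide +kernel

/-- An isometry commuting with the scalars is a scalar times a member. -/
theorem unit_class {g : ℕ} (hg : Unit4 g) (hf : comp g one = g) :
    ∃ c < 4, c ≠ 0 ∧ ∃ u, InU u ∧ g = comp (scl c) u := by
  obtain ⟨i, hi, ei⟩ := sing_rep (Sing.app hg (show Sing 1 from ⟨by norm_num, by norm_num, by decide +kernel⟩))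
  obtain ⟨r, hr, er⟩ := inU_inv (inU_rep hi)
  have hfix : app (comp r g) 1 = 1 := by
    rw [app_comp, ← ei, ← app_comp, er, app_one _ (by norm_num)]
  have hform : comp (comp r g) one = comp r g := by rw [comp_assoc, hf]
  have hm := unit_stab (hr.unit.comp hg) hform hfix
  have back : g = comp (rep i) (comp r g) := by
    have e1 : comp (rep i) r = one := by
      refine (InU.ext (inU_comp (inU_rep hi) hr) inU_one fun v hv => ?_)
      obtain ⟨w, hw, rfl⟩ := (inU_rep hi).unit.surj hv
      rw [app_comp, ← app_comp r, er, app_one _ hw, app_one _ (app_lt _ _)]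
    rw [← comp_assoc, e1, ← hf, one_comp]
  have comm : ∀ c < 4, ∀ u, InU u → comp u (scl c) = comp (scl c) u := fun c hc u hu => comp_ext fun v hv => by
    rw [app_comp, app_comp, scl_app c hc v hv, hu.unit.smul_app c v hc hv, scl_app c hc _ (app_lt _ _)]
  simp only [stabList, List.mem_append, List.mem_map, List.mem_range] at hm
  rcases hm with (hm | ⟨j, hj, e⟩) | ⟨j, hj, e⟩
  · obtain ⟨j, hj, e⟩ := List.mem_iff_getElem.mp hm
    have hj' : j < 192 := by rw [forms.2.2.2.2.2.2] at hj; exact hj
    have est : st j = comp r g := by rw [st, List.getD_eq_getElem?_getD, List.getElem?_eq_getElem hj]; exact e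
    refine ⟨1, by norm_num, by norm_num, _, inU_comp (inU_rep hi) (inU_st hj'), ?_⟩
    rw [show scl 1 = one by decide +kernel, one_comp, est, ← back]
  · refine ⟨3, by norm_num, by norm_num, _, inU_comp (inU_rep hi) (inU_elt (p := (scI 2, j)) scI_ok.1 hj), ?_⟩
    rw [← comp_assoc, ← comm 3 (by norm_num) _ (inU_rep hi), comp_assoc, e, ← back]
  · refine ⟨2, by norm_num, by norm_num, _, inU_comp (inU_rep hi) (inU_elt (p := (scI 3, j)) scI_ok.2 hj), ?_⟩
    rw [← comp_assoc, ← comm 2 (by norm_num) _ (inU_rep hi), comp_assoc, e, ← back]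

theorem scl_not : ∀ c < 4, 1 < c → ((List.range 192).all fun j => !Nat.beq (elt (scI c, j)) (scl c)) = true := by
  decide +kernel

/-- A scalar in the group is trivial. -/
theorem scl_mem {c : ℕ} (hc : c < 4) (h0 : c ≠ 0) (h : InU (scl c)) : c = 1 := by
  by_contra h1
  obtain ⟨i, j, hi, hj, e⟩ := h
  have hs : scI c < 135 ∧ app (rep (scI c)) 1 = c := (show ∀ c < 4, 1 < c → scI c < 135 ∧ app (rep (scI c)) 1 = c by
    decide +kernel) c hc (by omega)
  have e1 : app (rep i) 1 = app (rep (scI c)) 1 := by
    rw [hs.2, ← elt_app hj, ← e, scl_app c hc 1 (by norm_num), smul_pt c hc]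
  have := rep_inj hi hs.1 e1
  subst this
  have := List.all_eq_true.mp (scl_not c hc (by omega)) j (List.mem_range.mpr hj)
  rw [← e] at this
  simp at this
where
  smul_pt : ∀ c < 4, smul4 c 1 = c := by decide +kernel

end CfsgLib.U42Act
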