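/-
Maps of order three on a space of eight bits: the fixed part, the moved part and counting.
-/
import Mathlib

set_option autoImplicit false
set_option linter.unusedVariables false

namespace CfsgLib.U42Act

/-- An additive map of order dividing three. -/
structure Ord3 (T : ℕ → ℕ) : Prop where
  lt : ∀ v < 256, T v < 256
  add : ∀ u v, u < 256 → v < 256 → T (u ^^^ v) = T u ^^^ T v
  cube : ∀ v < 256, T (T (T v)) = v

/-- The moved part. -/
def wp (T : ℕ → ℕ) (v : ℕ) : ℕ := T v ^^^ T (T v)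

/-- The fixed part. -/
def fp (T : ℕ → ℕ) (v : ℕ) : ℕ := v ^^^ wp T v

theorem xlt {a b : ℕ} (ha : a < 256) (hb : b < 256) : a ^^^ b < 256 := Nat.xor_lt_two_pow (n := 8) ha hb

theorem xcancel (a b : ℕ) : a ^^^ (a ^^^ b) = b := by rw [← Nat.xor_assoc, Nat.xor_self, Nat.zero_xor]

theorem xzero {a b : ℕ} (h : a ^^^ b = 0) : a = b := by
  have := congrArg (a ^^^ ·) h
  simpa [xcancel] using this.symm

namespace Ord3

variable {T S : ℕ → ℕ} (hT : Ord3 T)
include hT

theorem zero : T 0 = 0 := by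
  have h := hT.add 0 0 (by norm_num) (by norm_num)
  simpa using h

theorem inj {u v : ℕ} (hu : u < 256) (hv : v < 256) (h : T u = T v) : u = v := by
  rw [← hT.cube u hu, h, hT.cube v hv]

theorem wp_lt {v : ℕ} (hv : v < 256) : wp T v < 256 := xlt (hT.lt v hv) (hT.lt _ (hT.lt v hv))

theorem fp_lt {v : ℕ} (hv : v < 256) : fp T v < 256 := xlt hv (hT.wp_lt hv)

theorem wp_add {u v : ℕ} (hu : u < 256) (hv : v < 256) : wp T (u ^^^ v) = wp T u ^^^ wp T v := by
  simp only [wp, hT.add u v hu hv, hT.add _ _ (hT.lt u hu) (hT.lt v hv)]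
  ac_rfl

theorem wp_zero : wp T 0 = 0 := by simp [wp, hT.zero]

theorem wp_map {v : ℕ} (hv : v < 256) : wp T (T v) = T (wp T v) := by
  simp only [wp, hT.add _ _ (hT.lt v hv) (hT.lt _ (hT.lt v hv))]

theorem wp_sum {v : ℕ} (hv : v < 256) : wp T v ^^^ T (wp T v) ^^^ T (T (wp T v)) = 0 := by
  have l1 := hT.lt v hv
  have l2 := hT.lt _ l1
  simp only [wp, hT.add _ _ l1 l2, hT.cube v hv, hT.add _ _ l2 hv, hT.cube _ l1]
  simp [Nat.xor_comm, Nat.xor_left_comm, xcancel, Nat.xor_self]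

theorem wp_idem {v : ℕ} (hv : v < 256) : wp T (wp T v) = wp T v := by
  have h := hT.wp_sum hv
  rw [Nat.xor_assoc] at h
  exact (xzero h).symm

theorem fp_fix {v : ℕ} (hv : v < 256) : T (fp T v) = fp T v := by
  have l1 := hT.lt v hv
  have l2 := hT.lt _ l1
  simp only [fp, wp, hT.add _ _ hv (xlt l1 l2), hT.add _ _ l1 l2, hT.cube v hv]
  ac_rfl

theorem wp_fixed {v : ℕ} (h : T v = v) : wp T v = 0 := by simp [wp, h]

theorem fix_of_wp {v : ℕ} (hv : v < 256) (h : wp T v = 0) : T v = v := by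
  have := hT.fp_fix hv
  rwa [fp, h, Nat.xor_zero] at this

theorem wp_iff {v : ℕ} (hv : v < 256) : wp T v = v ↔ v ^^^ T v ^^^ T (T v) = 0 := by
  constructor
  · intro h
    rw [← h]
    exact hT.wp_sum hv
  · intro h
    rw [Nat.xor_assoc] at h
    exact (xzero h).symm

theorem moved {v : ℕ} (hv : v < 256) (h : wp T v = v) (h0 : v ≠ 0) : T v ≠ v := fun e => h0 (by rw [← h, hT.wp_fixed e])

theorem wp_comm (hS : Ord3 S) (hc : ∀ v < 256, S (T v) = T (S v)) {v : ℕ} (hv : v < 256) :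
    S (wp T v) = wp T (S v) := by
  simp only [wp, hS.add _ _ (hT.lt v hv) (hT.lt _ (hT.lt v hv)), hc v hv, hc _ (hT.lt v hv)]

end Ord3

/-- A subgroup of vectors. -/
structure Sub (P : ℕ → Prop) : Prop where
  zero : P 0
  add : ∀ u v, u < 256 → v < 256 → P u → P v → P (u ^^^ v)

/-- The number of vectors in a set. -/
noncomputable def cnt (P : ℕ → Prop) : ℕ := Nat.card {v : ℕ // v < 256 ∧ P v}

instance (P : ℕ → Prop) : Finite {v : ℕ // v < 256 ∧ P v} :=
  ((Set.finite_Iio 256).subset fun _ h => h.1).to_subtype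

theorem cnt_top : cnt (fun _ => True) = 256 := by
  have e : {v : ℕ // v < 256 ∧ True} ≃ Fin 256 :=
    { toFun := fun v => ⟨v, v.2.1⟩
      invFun := fun v => ⟨v, v.2, trivial⟩
      left_inv := fun v => rfl
      right_inv := fun v => rfl }
  rw [cnt, Nat.card_congr e, Nat.card_fin]

theorem cnt_congr {P Q : ℕ → Prop} (h : ∀ v < 256, P v ↔ Q v) : cnt P = cnt Q :=
  Nat.card_congr (Equiv.subtypeEquivRight fun v => ⟨fun a => ⟨a.1, (h v a.1).mp a.2⟩, fun a => ⟨a.1, (h v a.1).mpr a.2⟩⟩)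

theorem cnt_le {P Q : ℕ → Prop} (g : ℕ → ℕ) (hg : ∀ v < 256, P v → g v < 256 ∧ Q (g v))
    (inj : ∀ u v, u < 256 → v < 256 → g u = g v → u = v) : cnt P ≤ cnt Q :=
  Nat.card_le_card_of_injective (fun v => ⟨g v.1, hg v.1 v.2.1 v.2.2⟩) fun u v h =>
    Subtype.ext (inj _ _ u.2.1 v.2.1 (congrArg Subtype.val h))

/-- A set splits into the fixed and the moved part of a map preserving it. -/
theorem cnt_split {P : ℕ → Prop} (hP : Sub P) {T : ℕ → ℕ} (hT : Ord3 T) (inv : ∀ v < 256, P v → P (T v)) :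
    cnt P = cnt (fun v => P v ∧ T v = v) * cnt (fun v => P v ∧ wp T v = v) := by
  unfold cnt
  rw [← Nat.card_prod]
  have hw : ∀ v < 256, P v → P (wp T v) := fun v hv h =>
    hP.add _ _ (hT.lt v hv) (hT.lt _ (hT.lt v hv)) (inv v hv h) (inv _ (hT.lt v hv) (inv v hv h))
  refine Nat.card_eq_of_bijective (fun v =>
    (⟨fp T v.1, hT.fp_lt v.2.1, hP.add _ _ v.2.1 (hT.wp_lt v.2.1) v.2.2 (hw _ v.2.1 v.2.2), hT.fp_fix v.2.1⟩,
     ⟨wp T v.1, hT.wp_lt v.2.1, hw _ v.2.1 v.2.2, hT.wp_idem v.2.1⟩)) ⟨fun u v h => ?_, fun p => ?_⟩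
  · simp only [Prod.mk.injEq, Subtype.mk.injEq] at h
    refine Subtype.ext ?_
    have e := h.1
    rw [fp, fp, h.2] at e
    exact Nat.xor_left_inj.mp e
  · obtain ⟨⟨a, ha, pa, fa⟩, ⟨b, hb, pb, wb⟩⟩ := p
    have e : wp T (a ^^^ b) = b := by rw [hT.wp_add ha hb, hT.wp_fixed fa, wb, Nat.zero_xor]
    refine ⟨⟨a ^^^ b, xlt ha hb, hP.add _ _ ha hb pa pb⟩, Prod.ext (Subtype.ext ?_) (Subtype.ext e)⟩
    show fp T (a ^^^ b) = a
    rw [fp, e, Nat.xor_assoc, Nat.xor_self, Nat.xor_zero]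

theorem cnt_pos {P : ℕ → Prop} (hP : Sub P) : 0 < cnt P :=
  Nat.card_pos_iff.mpr ⟨⟨⟨0, by norm_num, hP.zero⟩⟩, inferInstance⟩

theorem cnt_one {P : ℕ → Prop} (hP : Sub P) (h : cnt P = 1) {v : ℕ} (hv : v < 256) (hp : P v) : v = 0 := by
  haveI := (Nat.card_eq_one_iff_unique.mp h).1
  exact congrArg Subtype.val (Subsingleton.elim (⟨v, hv, hp⟩ : {v : ℕ // v < 256 ∧ P v}) ⟨0, by norm_num, hP.zero⟩)

theorem cnt_eq_one {P : ℕ → Prop} (hP : Sub P) (h : ∀ v < 256, P v → v = 0) : cnt P = 1 :=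
  Nat.card_eq_one_iff_unique.mpr ⟨⟨fun u v => Subtype.ext ((h _ u.2.1 u.2.2).trans (h _ v.2.1 v.2.2).symm)⟩,
    ⟨⟨0, by norm_num, hP.zero⟩⟩⟩

/-- A nonzero moved set has at least four members. -/
theorem four_le {P : ℕ → Prop} (hP : Sub P) {T : ℕ → ℕ} (hT : Ord3 T) (inv : ∀ v < 256, P v → P (T v))
    (fpf : ∀ v < 256, P v → wp T v = v) (h : cnt P ≠ 1) : 4 ≤ cnt P := by
  obtain ⟨v, hv, hp, h0⟩ : ∃ v, v < 256 ∧ P v ∧ v ≠ 0 := by
    by_contra hn
    push Not at hn
    exact h (cnt_eq_one hP hn)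
  have l1 := hT.lt v hv
  let g : Fin 4 → {v : ℕ // v < 256 ∧ P v} :=
    ![⟨0, by norm_num, hP.zero⟩, ⟨v, hv, hp⟩, ⟨T v, l1, inv v hv hp⟩, ⟨T (T v), hT.lt _ l1, inv _ l1 (inv v hv hp)⟩]
  have m := hT.moved hv (fpf v hv hp) h0
  have a0 : T v ≠ 0 := fun e => h0 (hT.inj hv (by norm_num) (e.trans hT.zero.symm))
  have b0 : T (T v) ≠ 0 := fun e => a0 (hT.inj l1 (by norm_num) (e.trans hT.zero.symm))
  have b1 : T (T v) ≠ v := fun e => m (by
    have h3 := hT.cube v hv
    rwa [e] at h3)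
  have b2 : T (T v) ≠ T v := fun e => m (hT.inj l1 hv e)
  have hg : Function.Injective g := by
    intro i j e
    have e' := congrArg Subtype.val e
    fin_cases i <;> fin_cases j <;> simp [g] at e' <;> first
      | rfl
      | exact absurd e' h0
      | exact absurd e'.symm h0
      | exact absurd e' m
      | exact absurd e'.symm m
      | exact absurd e' a0
      | exact absurd e'.symm a0
      | exact absurd e' b0
      | exact absurd e'.symm b0
      | exact absurd e' b1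
      | exact absurd e'.symm b1
      | exact absurd e' b2
      | exact absurd e'.symm b2
  have := Nat.card_le_card_of_injective g hg
  rwa [Nat.card_fin] at this

/-- In a set with four members the moved vectors form one orbit. -/
theorem four_orbit {P : ℕ → Prop} (hP : Sub P) {T : ℕ → ℕ} (hT : Ord3 T) (inv : ∀ v < 256, P v → P (T v))
    (fpf : ∀ v < 256, P v → wp T v = v) (h : cnt P = 4) {v w : ℕ} (hv : v < 256) (hp : P v) (h0 : v ≠ 0)
    (hw : w < 256) (hq : P w) : w = 0 ∨ w = v ∨ w = T v ∨ w = T (T v) := by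
  by_contra hn
  push Not at hn
  obtain ⟨n0, n1, n2, n3⟩ := hn
  have l1 := hT.lt v hv
  have m := hT.moved hv (fpf v hv hp) h0
  have a0 : T v ≠ 0 := fun e => h0 (hT.inj hv (by norm_num) (e.trans hT.zero.symm))
  have b0 : T (T v) ≠ 0 := fun e => a0 (hT.inj l1 (by norm_num) (e.trans hT.zero.symm))
  have b1 : T (T v) ≠ v := fun e => m (by
    have h3 := hT.cube v hv
    rwa [e] at h3)
  have b2 : T (T v) ≠ T v := fun e => m (hT.inj l1 hv e)
  let g : Fin 5 → {v : ℕ // v < 256 ∧ P v} :=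
    ![⟨0, by norm_num, hP.zero⟩, ⟨v, hv, hp⟩, ⟨T v, l1, inv v hv hp⟩, ⟨T (T v), hT.lt _ l1, inv _ l1 (inv v hv hp)⟩,
      ⟨w, hw, hq⟩]
  have hg : Function.Injective g := by
    intro i j e
    have e' := congrArg Subtype.val e
    fin_cases i <;> fin_cases j <;> simp [g] at e' <;> first
      | rfl
      | exact absurd e' h0
      | exact absurd e'.symm h0
      | exact absurd e' m
      | exact absurd e'.symm m
      | exact absurd e' a0
      | exact absurd e'.symm a0
      | exact absurd e' b0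
      | exact absurd e'.symm b0
      | exact absurd e' b1
      | exact absurd e'.symm b1
      | exact absurd e' b2
      | exact absurd e'.symm b2
      | exact absurd e' n0
      | exact absurd e'.symm n0
      | exact absurd e' n1
      | exact absurd e'.symm n1
      | exact absurd e' n2
      | exact absurd e'.symm n2
      | exact absurd e' n3
      | exact absurd e'.symm n3
  have := Nat.card_le_card_of_injective g hg
  rw [Nat.card_fin] at this
  exact absurd (show cnt P ≥ 5 from this) (by omega)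

end CfsgLib.U42Act
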