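/-
The decomposition of an eight-bit space under the commuting transvections of a totally isotropic line: four
planes, or a plane and a moved six-space.
-/
import Cfsg.Agent.Lib.U42Act.Num
import Cfsg.Agent.Lib.U42Act.Ord

set_option autoImplicit false
set_option linter.unusedVariables false

namespace CfsgLib.U42Act

/-- An action of the transvections. -/
structure Sys where
  f : ℕ → ℕ → ℕ
  ord : ∀ n < 81, Ord3 (f n)
  line : ∀ v < 256, f 1 (f 3 (f 4 (f 5 v))) = v
  comm : ∀ u ∈ lineP, ∀ w ∈ lineP, ∀ v < 256, f u (f w v) = f w (f u v)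
  perp : ∀ n < 81, ∃ x ∈ lineP, ∀ v < 256, f n (f x v) = f x (f n v)
  swap : ∀ s ∈ swaps, ∀ i < 4, ∀ v < 256,
    f s.2.1 (f s.1 (f (lineP.getD i 0) v)) = f (lineP.getD (s.2.2.getD i 0) 0) (f s.2.1 (f s.1 v))
  moved : ∃ v < 256, f 1 v ≠ v

/-- Fixed or moved. -/
def cond (b : Bool) (T : ℕ → ℕ) (v : ℕ) : Prop := if b then wp T v = v else T v = v

/-- The projection to the fixed or moved part. -/
def proj (b : Bool) (T : ℕ → ℕ) (v : ℕ) : ℕ := if b then wp T v else fp T v

namespace Sys

variable (D : Sys)

/-- The four maps of the line. -/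
def L (i : ℕ) : ℕ → ℕ := D.f (lineP.getD i 0)

theorem L_mem {i : ℕ} (hi : i < 4) : lineP.getD i 0 ∈ lineP ∧ lineP.getD i 0 < 81 := by
  interval_cases i <;> decide

theorem hL {i : ℕ} (hi : i < 4) : Ord3 (D.L i) := D.ord _ (L_mem hi).2

theorem L_comm {i j : ℕ} (hi : i < 4) (hj : j < 4) {v : ℕ} (hv : v < 256) :
    D.L i (D.L j v) = D.L j (D.L i v) := D.comm _ (L_mem hi).1 _ (L_mem hj).1 v hv

theorem prod {v : ℕ} (hv : v < 256) : D.L 0 (D.L 1 (D.L 2 (D.L 3 v))) = v := D.line v hv

/-- The class of a list of conditions. -/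
def Cls (l : List Bool) (v : ℕ) : Prop := ∀ i, i < 4 → i < l.length → cond (l.getD i false) (D.L i) v

theorem cond_sub (b : Bool) {i : ℕ} (hi : i < 4) {u v : ℕ} (hu : u < 256) (hv : v < 256)
    (a : cond b (D.L i) u) (c : cond b (D.L i) v) : cond b (D.L i) (u ^^^ v) := by
  have h := D.hL hi
  cases b <;> simp only [cond, Bool.false_eq_true, if_false, if_true] at a c ⊢
  · rw [h.add u v hu hv, a, c]
  · rw [h.wp_add hu hv, a, c]

theorem cond_zero (b : Bool) {i : ℕ} (hi : i < 4) : cond b (D.L i) 0 := by
  have h := D.hL hi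
  cases b <;> simp [cond, h.zero, h.wp_zero]

theorem cls_sub (l : List Bool) : Sub (D.Cls l) :=
  ⟨fun i hi _ => D.cond_zero _ hi, fun u v hu hv a c i hi hl => D.cond_sub _ hi hu hv (a i hi hl) (c i hi hl)⟩

theorem cond_map (b : Bool) {i j : ℕ} (hi : i < 4) (hj : j < 4) {v : ℕ} (hv : v < 256) (a : cond b (D.L i) v) :
    cond b (D.L i) (D.L j v) := by
  cases b <;> simp only [cond, Bool.false_eq_true, if_false, if_true] at a ⊢
  · rw [D.L_comm hi hj hv, a]
  · rw [← (D.hL hi).wp_comm (D.hL hj) (fun w hw => D.L_comm hj hi hw) hv, a]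

theorem cls_inv (l : List Bool) {j : ℕ} (hj : j < 4) : ∀ v < 256, D.Cls l v → D.Cls l (D.L j v) :=
  fun v hv a i hi hl => D.cond_map _ hi hj hv (a i hi hl)

theorem step (l : List Bool) {n : ℕ} (hn : l.length = n) (h4 : n < 4) :
    cnt (D.Cls l) = cnt (D.Cls (l ++ [false])) * cnt (D.Cls (l ++ [true])) := by
  subst hn
  rw [cnt_split (D.cls_sub l) (D.hL h4) (D.cls_inv l h4)]
  have key : ∀ (b : Bool) (v : ℕ), (D.Cls l v ∧ cond b (D.L l.length) v) ↔ D.Cls (l ++ [b]) v := by
    intro b v
    constructor
    · rintro ⟨a, c⟩ i hi hl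
      rw [List.length_append, List.length_singleton] at hl
      rcases Nat.lt_succ_iff_lt_or_eq.mp hl with h | rfl
      · rw [List.getD_eq_getElem?_getD, List.getElem?_append_left h, ← List.getD_eq_getElem?_getD]; exact a i hi h
      · simpa [List.getD_eq_getElem?_getD] using c
    · intro a
      refine ⟨fun i hi hl => ?_, ?_⟩
      · have := a i hi (by rw [List.length_append]; omega)
        rwa [List.getD_eq_getElem?_getD, List.getElem?_append_left hl, ← List.getD_eq_getElem?_getD] at this
      · have := a l.length h4 (by simp)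
        simpa [List.getD_eq_getElem?_getD] using this
  exact congrArg₂ (· * ·) (cnt_congr fun v _ => key false v) (cnt_congr fun v _ => key true v)

/-- The number of vectors of a full pattern. -/
noncomputable def N (a b c d : Bool) : ℕ := cnt (D.Cls [a, b, c, d])

theorem prod_cnt :
    D.N false false false false * D.N false false false true * (D.N false false true false * D.N false false true true) *
      (D.N false true false false * D.N false true false true * (D.N false true true false * D.N false true true true)) *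
      (D.N true false false false * D.N true false false true * (D.N true false true false * D.N true false true true) *
        (D.N true true false false * D.N true true false true * (D.N true true true false * D.N true true true true)))
      = 256 := by
  have s3 : ∀ a b c : Bool, cnt (D.Cls [a, b, c]) = D.N a b c false * D.N a b c true :=
    fun a b c => D.step [a, b, c] (n := 3) rfl (by norm_num)
  have s2 : ∀ a b : Bool, cnt (D.Cls [a, b]) = cnt (D.Cls [a, b, false]) * cnt (D.Cls [a, b, true]) :=
    fun a b => D.step [a, b] (n := 2) rfl (by norm_num)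
  have s1 : ∀ a : Bool, cnt (D.Cls [a]) = cnt (D.Cls [a, false]) * cnt (D.Cls [a, true]) :=
    fun a => D.step [a] (n := 1) rfl (by norm_num)
  have s0 : cnt (D.Cls []) = cnt (D.Cls [false]) * cnt (D.Cls [true]) := D.step [] (n := 0) rfl (by norm_num)
  have e : cnt (D.Cls []) = 256 := by
    rw [← cnt_top]
    exact cnt_congr fun v _ => ⟨fun _ => trivial, fun _ i _ hl => by simp at hl⟩
  rw [← e, s0, s1, s1, s2, s2, s2, s2, s3, s3, s3, s3, s3, s3, s3, s3]

/-- The permuted pattern. -/
def permL (p : List ℕ) (l : List Bool) : List Bool := (List.range 4).map fun i => l.getD (p.getD i 0) false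

theorem swap_le {s : ℕ × ℕ × List ℕ} (hs : s ∈ swaps) (l : List Bool) (hl : l.length = 4) :
    cnt (D.Cls (permL s.2.2 l)) ≤ cnt (D.Cls l) := by
  have hb : s.1 < 81 ∧ s.2.1 < 81 ∧ (∀ j < 4, ∃ i < 4, s.2.2.getD i 0 = j) :=
    (show ∀ s ∈ swaps, s.1 < 81 ∧ s.2.1 < 81 ∧ (∀ j < 4, ∃ i < 4, s.2.2.getD i 0 = j) by decide) s hs
  have o1 := D.ord _ hb.1
  have o2 := D.ord _ hb.2.1
  refine cnt_le (fun v => D.f s.2.1 (D.f s.1 v)) (fun v hv a => ⟨o2.lt _ (o1.lt v hv), fun j hj _ => ?_⟩)
    fun u v hu hv e => o1.inj hu hv (o2.inj (o1.lt u hu) (o1.lt v hv) e)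
  obtain ⟨i, hi, rfl⟩ := hb.2.2 j hj
  have h := a i hi (by simp [permL, hi])
  have hp : (permL s.2.2 l).getD i false = l.getD (s.2.2.getD i 0) false := by
    simp [permL, List.getD_eq_getElem?_getD, hi]
  rw [hp] at h
  have sw : ∀ w < 256, D.f s.2.1 (D.f s.1 (D.L i w)) = D.L (s.2.2.getD i 0) (D.f s.2.1 (D.f s.1 w)) :=
    fun w hw => D.swap s hs i hi w hw
  revert h
  generalize l.getD (s.2.2.getD i 0) false = b
  intro h
  cases b <;> simp only [cond, Bool.false_eq_true, if_false, if_true] at h ⊢
  · rw [← sw v hv, h]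
  · have hi' := D.hL hi
    conv_rhs => rw [← h]
    simp only [wp, o1.add _ _ (hi'.lt v hv) (hi'.lt _ (hi'.lt v hv))]
    rw [o2.add _ _ (o1.lt _ (hi'.lt v hv)) (o1.lt _ (hi'.lt _ (hi'.lt v hv))), sw v hv, sw _ (hi'.lt v hv), sw v hv]

theorem swap_eq {s : ℕ × ℕ × List ℕ} (hs : s ∈ swaps) {a b c d a' b' c' d' : Bool}
    (h : permL s.2.2 [a, b, c, d] = [a', b', c', d']) (h' : permL s.2.2 [a', b', c', d'] = [a, b, c, d]) :
    D.N a b c d = D.N a' b' c' d' := by
  have e := D.swap_le hs [a, b, c, d] rfl
  have e' := D.swap_le hs [a', b', c', d'] rfl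
  rw [h] at e
  rw [h'] at e'
  exact le_antisymm e' e

theorem N_pos (a b c d : Bool) : 0 < D.N a b c d := cnt_pos (D.cls_sub _)

theorem N_mem {a b c d : Bool} {v : ℕ} (h : D.Cls [a, b, c, d] v) :
    cond a (D.L 0) v ∧ cond b (D.L 1) v ∧ cond c (D.L 2) v ∧ cond d (D.L 3) v :=
  ⟨h 0 (by norm_num) (by simp), h 1 (by norm_num) (by simp), h 2 (by norm_num) (by simp), h 3 (by norm_num) (by simp)⟩

theorem N_four {a b c d : Bool} (h : a = true ∨ b = true ∨ c = true ∨ d = true) (h1 : D.N a b c d ≠ 1) :
    4 ≤ D.N a b c d := by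
  obtain ⟨i, hi, e⟩ : ∃ i < 4, ([a, b, c, d] : List Bool).getD i false = true := by
    rcases h with rfl | rfl | rfl | rfl
    exacts [⟨0, by norm_num, rfl⟩, ⟨1, by norm_num, rfl⟩, ⟨2, by norm_num, rfl⟩, ⟨3, by norm_num, rfl⟩]
  refine four_le (D.cls_sub _) (D.hL hi) (D.cls_inv _ hi) (fun v hv hc => ?_) h1
  have := hc i hi (by simp only [List.length_cons, List.length_nil]; omega)
  rw [e] at this
  simpa [cond] using this

theorem N_single : D.N true false false false = 1 := by
  refine cnt_eq_one (D.cls_sub _) fun v hv h => ?_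
  obtain ⟨a, b, c, d⟩ := D.N_mem h
  simp only [cond, if_true, Bool.false_eq_true, if_false] at a b c d
  have e := D.prod hv
  rw [d, c, b] at e
  rw [← a, (D.hL (show 0 < 4 by norm_num)).wp_fixed e]

/-- Numbers of vectors of each weight. -/
theorem weights :
    (D.N false true false false = 1 ∧ D.N false false true false = 1 ∧ D.N false false false true = 1) ∧
    (D.N false true true false = D.N true true false false ∧ D.N true false true false = D.N true true false false ∧
      D.N true false false true = D.N true true false false ∧ D.N false true false true = D.N true true false false ∧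
      D.N false false true true = D.N true true false false) ∧
    (D.N true false true true = D.N false true true true ∧ D.N true true false true = D.N false true true true ∧
      D.N true true true false = D.N false true true true) := by
  have m01 : (36, 44, [1, 0, 2, 3]) ∈ swaps := by decide
  have m02 : (9, 16, [2, 1, 0, 3]) ∈ swaps := by decide
  have m03 : (9, 13, [3, 1, 2, 0]) ∈ swaps := by decide
  have m12 : (27, 32, [0, 2, 1, 3]) ∈ swaps := by decide
  have m13 : (27, 31, [0, 3, 2, 1]) ∈ swaps := by decide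
  have p : ∀ {a b c d a' b' c' d' : Bool} (s : ℕ × ℕ × List ℕ), s ∈ swaps →
      permL s.2.2 [a, b, c, d] = [a', b', c', d'] → permL s.2.2 [a', b', c', d'] = [a, b, c, d] →
      D.N a b c d = D.N a' b' c' d' := fun s hs h h' => D.swap_eq hs h h'
  have e1 := D.N_single
  refine ⟨⟨(p _ m01 rfl rfl).trans e1, (p _ m02 rfl rfl).trans e1, (p _ m03 rfl rfl).trans e1⟩, ?_, ?_⟩
  · have a : D.N true false true false = D.N true true false false := p _ m12 rfl rfl
    have b : D.N true false false true = D.N true true false false := p _ m13 rfl rfl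
    have c : D.N false true true false = D.N true true false false := p _ m02 rfl rfl
    have d : D.N false true false true = D.N true true false false := p _ m03 rfl rfl
    exact ⟨c, a, b, d, (p _ m02 rfl rfl).trans b⟩
  · exact ⟨p _ m01 rfl rfl, p _ m02 rfl rfl, p _ m03 rfl rfl⟩

/-- Four planes, or a fixed part and a moved part. -/
theorem dichotomy :
    (D.N true true false false = 1 ∧ D.N false true true true = 4 ∧ D.N false false false false = 1 ∧
      D.N true true true true = 1) ∨
    (D.N true true false false = 1 ∧ D.N false true true true = 1 ∧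
      D.N false false false false * D.N true true true true = 256) := by
  have h := D.prod_cnt
  obtain ⟨⟨s1, s2, s3⟩, ⟨t1, t2, t3, t4, t5⟩, ⟨r1, r2, r3⟩⟩ := D.weights
  rw [s1, s2, s3, D.N_single, t1, t2, t3, t4, t5, r1, r2, r3] at h
  have h2 := D.N_four (a := true) (b := true) (c := false) (d := false) (Or.inl rfl)
  have h3 := D.N_four (a := false) (b := true) (c := true) (d := true) (Or.inr (Or.inl rfl))
  have h4 := D.N_pos true true true true
  have h0 := D.N_pos false false false false
  generalize D.N true true false false = x at *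
  generalize D.N false true true true = y at *
  generalize D.N false false false false = z at *
  generalize D.N true true true true = w at *
  have h' : x ^ 6 * y ^ 4 * (z * w) = 256 := by rw [← h]; ring
  have x1 : x = 1 := by
    by_contra hx
    have hy : 1 ≤ y := Nat.pos_of_ne_zero fun e => by subst e; simp at h'
    have : 4 ^ 6 * 1 * 1 ≤ x ^ 6 * y ^ 4 * (z * w) :=
      Nat.mul_le_mul (Nat.mul_le_mul (Nat.pow_le_pow_left (h2 hx) 6) (Nat.one_le_pow _ _ hy)) (Nat.mul_pos h0 h4)
    omega
  subst x1
  by_cases hy : y = 1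
  · subst hy
    exact Or.inr ⟨rfl, rfl, by simpa using h'⟩
  · left
    have y4 := h3 hy
    have hzw : 1 ≤ z * w := Nat.mul_pos h0 h4
    have y4' : y = 4 := by
      by_contra hne
      have : 1 * 5 ^ 4 * 1 ≤ 1 ^ 6 * y ^ 4 * (z * w) :=
        Nat.mul_le_mul (Nat.mul_le_mul (by norm_num) (Nat.pow_le_pow_left (by omega) 4)) hzw
      omega
    subst y4'
    have zw : z * w = 1 := by omega
    exact ⟨rfl, rfl, (mul_eq_one.mp zw).1, (mul_eq_one.mp zw).2⟩

/-- Splitting of a vector by two of the maps. -/
theorem zero_of_parts {k l : ℕ} (hk : k < 4) (hl : l < 4) {v : ℕ} (hv : v < 256)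
    (h : ∀ b c : Bool, proj b (D.L k) (proj c (D.L l) v) = 0) : v = 0 := by
  have key : ∀ c, proj c (D.L l) v = 0 := fun c => by
    have a := h false c
    have b := h true c
    simp only [proj, Bool.false_eq_true, if_false, if_true, fp] at a b ⊢
    rwa [b, Nat.xor_zero] at a
  have a := key false
  have b := key true
  simp only [proj, Bool.false_eq_true, if_false, if_true, fp] at a b
  rwa [b, Nat.xor_zero] at a

theorem proj_cond (b : Bool) {i : ℕ} (hi : i < 4) {v : ℕ} (hv : v < 256) :
    proj b (D.L i) v < 256 ∧ cond b (D.L i) (proj b (D.L i) v) := by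
  cases b <;> simp only [proj, cond, Bool.false_eq_true, if_false, if_true]
  exacts [⟨(D.hL hi).fp_lt hv, (D.hL hi).fp_fix hv⟩, ⟨(D.hL hi).wp_lt hv, (D.hL hi).wp_idem hv⟩]

theorem proj_keep (b c : Bool) {i j : ℕ} (hi : i < 4) (hj : j < 4) {v : ℕ} (hv : v < 256)
    (a : cond b (D.L i) v) : cond b (D.L i) (proj c (D.L j) v) := by
  have h := D.hL hj
  have l := h.lt v hv
  have w : cond b (D.L i) (wp (D.L j) v) :=
    D.cond_sub b hi l (h.lt _ l) (D.cond_map b hi hj hv a) (D.cond_map b hi hj l (D.cond_map b hi hj hv a))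
  cases c <;> simp only [proj, Bool.false_eq_true, if_false, if_true]
  exacts [D.cond_sub b hi hv (h.wp_lt hv) a w, w]

/-- The remaining two indices. -/
theorem others : ∀ i < 4, ∀ j < 4, i ≠ j → ∃ k < 4, ∃ l < 4, k ≠ i ∧ k ≠ j ∧ l ≠ i ∧ l ≠ j ∧ k ≠ l := by
  have h : ∀ i j : Fin 4, i ≠ j → ∃ k l : Fin 4, k ≠ i ∧ k ≠ j ∧ l ≠ i ∧ l ≠ j ∧ k ≠ l := by decide
  intro i hi j hj hij
  obtain ⟨k, l, h1, h2, h3, h4, h5⟩ := h ⟨i, hi⟩ ⟨j, hj⟩ fun e => hij (congrArg Fin.val e)
  exact ⟨k, k.2, l, l.2, fun e => h1 (Fin.ext e), fun e => h2 (Fin.ext e), fun e => h3 (Fin.ext e),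
    fun e => h4 (Fin.ext e), fun e => h5 (Fin.ext e)⟩

/-- A vector is determined by its parts of all patterns through two fixed conditions. -/
theorem zero_of_patterns {i j : ℕ} (hi : i < 4) (hj : j < 4) (hij : i ≠ j) (bi bj : Bool) {v : ℕ} (hv : v < 256)
    (ci : cond bi (D.L i) v) (cj : cond bj (D.L j) v)
    (h : ∀ a b c d : Bool, ([a, b, c, d] : List Bool).getD i false = bi → ([a, b, c, d] : List Bool).getD j false = bj →
      D.N a b c d = 1) : v = 0 := by
  obtain ⟨k, hk, l, hl, k1, k2, l1, l2, kl⟩ := others i hi j hj hij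
  refine D.zero_of_parts hk hl hv fun b c => ?_
  set u := proj b (D.L k) (proj c (D.L l) v) with hu
  obtain ⟨lv, cl⟩ := D.proj_cond c hl hv
  obtain ⟨lu, ck⟩ := D.proj_cond b hk lv
  have c1 : cond bi (D.L i) u := D.proj_keep bi b hi hk lv (D.proj_keep bi c hi hl hv ci)
  have c2 : cond bj (D.L j) u := D.proj_keep bj b hj hk lv (D.proj_keep bj c hj hl hv cj)
  have c4 : cond c (D.L l) u := D.proj_keep c b hl hk lv cl
  let p : ℕ → Bool := fun n => if n = i then bi else if n = j then bj else if n = k then b else c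
  have hall : ∀ n < 4, n = i ∨ n = j ∨ n = k ∨ n = l := by
    intro n hn; omega
  have hp : ∀ n < 4, cond (p n) (D.L n) u := by
    intro n hn
    rcases hall n hn with rfl | rfl | rfl | rfl
    · simpa [p] using c1
    · simpa [p, hij.symm] using c2
    · simpa [p, k1, k2] using ck
    · simpa [p, l1, l2, kl.symm] using c4
  have hget : ∀ n < 4, ([p 0, p 1, p 2, p 3] : List Bool).getD n false = p n := by
    intro n hn; interval_cases n <;> rfl
  exact cnt_one (D.cls_sub _) (h (p 0) (p 1) (p 2) (p 3) (by rw [hget i hi]; simp [p]) (by rw [hget j hj]; simp [p, hij.symm]))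
    lu fun n hn _ => by rw [hget n hn]; exact hp n hn

end Sys

end CfsgLib.U42Act
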