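/-
The case of four planes: a scalar commuting with all the transvections and coordinates for the hermitian space.
-/
import Cfsg.Agent.Lib.U42Act.Line
import Cfsg.Agent.Lib.U6Rec.Lin

set_option autoImplicit false
set_option linter.unusedVariables false

namespace CfsgLib.U42Act

/-- The polar of a form. -/
def bq (q : ℕ → ℕ) (u v : ℕ) : ℕ := q (u ^^^ v) ^^^ q u ^^^ q v

/-- An invariant quadratic form with nondegenerate polar. -/
structure Form (D : Sys) (q : ℕ → ℕ) : Prop where
  lt : ∀ v < 256, q v < 2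
  zero : q 0 = 0
  inv : ∀ n < 81, ∀ v < 256, q (D.f n v) = q v
  add : ∀ u v w, u < 256 → v < 256 → w < 256 → bq q (u ^^^ v) w = bq q u w ^^^ bq q v w
  nd : ∀ u < 256, u ≠ 0 → ∃ v < 256, bq q u v = 1

/-- The four-planes case. -/
structure Planes (D : Sys) : Prop where
  two : D.N true true false false = 1
  three : D.N false true true true = 4
  none : D.N false false false false = 1
  all : D.N true true true true = 1

namespace Planes

variable {D : Sys} (P : Planes D)
include P

theorem low : ∀ a b c d : Bool, (a = false ∧ b = false) ∨ (a = false ∧ c = false) ∨ (a = false ∧ d = false) ∨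
    (b = false ∧ c = false) ∨ (b = false ∧ d = false) ∨ (c = false ∧ d = false) → D.N a b c d = 1 := by
  obtain ⟨⟨s1, s2, s3⟩, ⟨t1, t2, t3, t4, t5⟩, -⟩ := D.weights
  have h0 := P.none; have h1 := D.N_single; have h2 := P.two
  intro a b c d h
  cases a <;> cases b <;> cases c <;> cases d <;> simp_all

/-- A vector fixed by two of the maps is zero. -/
theorem null {i j : ℕ} (hi : i < 4) (hj : j < 4) (hij : i ≠ j) {v : ℕ} (hv : v < 256)
    (a : D.L i v = v) (b : D.L j v = v) : v = 0 := by
  refine D.zero_of_patterns hi hj hij false false hv (by simpa [cond] using a) (by simpa [cond] using b)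
    fun p q r s hp hq => P.low p q r s ?_
  interval_cases i <;> interval_cases j <;> simp_all

theorem fixed_moved {i j : ℕ} (hi : i < 4) (hj : j < 4) (hij : i ≠ j) {v : ℕ} (hv : v < 256) (a : D.L i v = v) :
    wp (D.L j) v = v := by
  have hc : D.L i (fp (D.L j) v) = fp (D.L j) v := by
    have := D.proj_keep false false hi hj hv (by simpa [cond] using a)
    simpa [cond, proj] using this
  have h0 := P.null hi hj hij ((D.hL hj).fp_lt hv) hc ((D.hL hj).fp_fix hv)
  exact (xzero h0).symm

/-- The pattern fixed by one map. -/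
theorem fix_cnt {i : ℕ} (hi : i < 4) : cnt (fun v => D.L i v = v) = 4 := by
  obtain ⟨-, -, ⟨r1, r2, r3⟩⟩ := D.weights
  have key : ∀ a b c d : Bool, D.N a b c d = 4 → ([a, b, c, d] : List Bool).getD i false = false →
      (∀ j < 4, j ≠ i → ([a, b, c, d] : List Bool).getD j false = true) → cnt (fun v => D.L i v = v) = 4 := by
    intro a b c d h e e'
    rw [← h]
    refine cnt_congr fun v hv => ⟨fun hf n hn _ => ?_, fun hc => ?_⟩
    · by_cases hn' : n = i
      · subst hn'; rw [e]; simpa [cond] using hf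
      · rw [e' n hn hn']; simpa [cond] using P.fixed_moved hi hn (Ne.symm hn') hv hf
    · have := hc i hi (by simp only [List.length_cons, List.length_nil]; omega)
      rw [e] at this
      simpa [cond] using this
  have h3 := P.three
  interval_cases i
  · exact key false true true true h3 rfl (by decide)
  · exact key true false true true (r1.trans h3) rfl (by decide)
  · exact key true true false true (r2.trans h3) rfl (by decide)
  · exact key true true true false (r3.trans h3) rfl (by decide)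

omit P in
theorem fix_sub {i : ℕ} (hi : i < 4) : Sub fun v => D.L i v = v :=
  ⟨(D.hL hi).zero, fun u v hu hv a b => by rw [(D.hL hi).add u v hu hv, a, b]⟩

omit P in
theorem fix_map {i j : ℕ} (hi : i < 4) (hj : j < 4) : ∀ v < 256, D.L i v = v → D.L i (D.L j v) = D.L j v :=
  fun v hv a => by rw [D.L_comm hi hj hv, a]

theorem orbit {i j : ℕ} (hi : i < 4) (hj : j < 4) (hij : i ≠ j) {v w : ℕ} (hv : v < 256) (a : D.L i v = v) (h0 : v ≠ 0)
    (hw : w < 256) (b : D.L i w = w) : w = 0 ∨ w = v ∨ w = D.L j v ∨ w = D.L j (D.L j v) :=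
  four_orbit (fix_sub hi) (D.hL hj) (fix_map hi hj) (fun u hu hc => P.fixed_moved hi hj hij hu hc) (P.fix_cnt hi) hv a h0 hw b

omit P in
theorem prod_perm {v : ℕ} (hv : v < 256) :
    D.L 1 (D.L 0 (D.L 2 (D.L 3 v))) = v ∧ D.L 2 (D.L 0 (D.L 1 (D.L 3 v))) = v ∧ D.L 3 (D.L 0 (D.L 1 (D.L 2 v))) = v := by
  have l := fun {i : ℕ} (hi : i < 4) {w : ℕ} (hw : w < 256) => (D.hL hi).lt w hw
  have c := fun {i j : ℕ} (hi : i < 4) (hj : j < 4) {w : ℕ} (hw : w < 256) => D.L_comm hi hj hw
  have h := D.prod hv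
  have x3 := l (show 3 < 4 by norm_num) hv
  have x2 := l (show 2 < 4 by norm_num) hv
  refine ⟨?_, ?_, ?_⟩
  · rw [c (show 1 < 4 by norm_num) (show 0 < 4 by norm_num) (l (show 2 < 4 by norm_num) x3)]; exact h
  · rw [c (show 2 < 4 by norm_num) (show 0 < 4 by norm_num) (l (show 1 < 4 by norm_num) x3),
      c (show 2 < 4 by norm_num) (show 1 < 4 by norm_num) x3]; exact h
  · rw [c (show 3 < 4 by norm_num) (show 0 < 4 by norm_num) (l (show 1 < 4 by norm_num) x2),
      c (show 3 < 4 by norm_num) (show 1 < 4 by norm_num) x2, c (show 3 < 4 by norm_num) (show 2 < 4 by norm_num) hv]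
    exact h

theorem equal_core {i a b c : ℕ} (hi : i < 4) (ha : a < 4) (hb : b < 4) (hc : c < 4) (ia : i ≠ a) (ib : i ≠ b)
    (ic : i ≠ c) (hp : ∀ v < 256, D.L i (D.L a (D.L b (D.L c v))) = v) {v : ℕ} (hv : v < 256) (f : D.L i v = v) :
    D.L b v = D.L a v := by
  by_cases h0 : v = 0
  · rw [h0, (D.hL hb).zero, (D.hL ha).zero]
  have m := fun {j : ℕ} (hj : j < 4) (ij : i ≠ j) => (D.hL hj).moved hv (P.fixed_moved hi hj ij hv f) h0
  have lb := (D.hL hb).lt v hv
  have lc := (D.hL hc).lt v hv
  rcases P.orbit hi ha ia hv f h0 lb (fix_map hi hb v hv f) with h | h | h | h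
  · exact absurd ((D.hL hb).inj hv (by norm_num) (h.trans (D.hL hb).zero.symm)) h0
  · exact absurd h (m hb ib)
  · exact h
  · exfalso
    refine m hc ic ?_
    have e : D.L a (D.L b (D.L c v)) = D.L c v := by
      rw [D.L_comm hb hc hv, D.L_comm ha hc lb, h, (D.hL ha).cube v hv]
    have := hp v hv
    rw [e] at this
    rwa [fix_map hi hc v hv f] at this

/-- The other three maps agree on a fixed plane. -/
theorem equal {i j k : ℕ} (hi : i < 4) (hj : j < 4) (hk : k < 4) (ij : i ≠ j) (ik : i ≠ k) {v : ℕ} (hv : v < 256)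
    (f : D.L i v = v) : D.L k v = D.L j v := by
  have main : ∀ a b c, a < 4 → b < 4 → c < 4 → i ≠ a → i ≠ b → i ≠ c →
      (∀ v < 256, D.L i (D.L a (D.L b (D.L c v))) = v) → D.L b v = D.L a v ∧ D.L c v = D.L b v := by
    intro a b c ha hb hc ia ib ic hp
    refine ⟨P.equal_core hi ha hb hc ia ib ic hp hv f, P.equal_core hi hb hc ha ib ic ia (fun w hw => ?_) hv f⟩
    rw [D.L_comm hc ha hw, D.L_comm hb ha ((D.hL hc).lt w hw)]
    exact hp w hw
  interval_cases i
  · obtain ⟨e1, e2⟩ := main 1 2 3 (by norm_num) (by norm_num) (by norm_num) (by norm_num) (by norm_num) (by norm_num)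
      fun w hw => D.prod hw
    interval_cases j <;> interval_cases k <;>
      first
        | rfl
        | exact absurd rfl ij
        | exact absurd rfl ik
        | exact e1
        | exact e1.symm
        | exact e2
        | exact e2.symm
        | exact e2.trans e1
        | exact (e2.trans e1).symm
  · obtain ⟨e1, e2⟩ := main 0 2 3 (by norm_num) (by norm_num) (by norm_num) (by norm_num) (by norm_num) (by norm_num)
      fun w hw => (prod_perm hw).1
    interval_cases j <;> interval_cases k <;>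
      first
        | rfl
        | exact absurd rfl ij
        | exact absurd rfl ik
        | exact e1
        | exact e1.symm
        | exact e2
        | exact e2.symm
        | exact e2.trans e1
        | exact (e2.trans e1).symm
  · obtain ⟨e1, e2⟩ := main 0 1 3 (by norm_num) (by norm_num) (by norm_num) (by norm_num) (by norm_num) (by norm_num)
      fun w hw => (prod_perm hw).2.1
    interval_cases j <;> interval_cases k <;>
      first
        | rfl
        | exact absurd rfl ij
        | exact absurd rfl ik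
        | exact e1
        | exact e1.symm
        | exact e2
        | exact e2.symm
        | exact e2.trans e1
        | exact (e2.trans e1).symm
  · obtain ⟨e1, e2⟩ := main 0 1 2 (by norm_num) (by norm_num) (by norm_num) (by norm_num) (by norm_num) (by norm_num)
      fun w hw => (prod_perm hw).2.2
    interval_cases j <;> interval_cases k <;>
      first
        | rfl
        | exact absurd rfl ij
        | exact absurd rfl ik
        | exact e1
        | exact e1.symm
        | exact e2
        | exact e2.symm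
        | exact e2.trans e1
        | exact (e2.trans e1).symm

end Planes

/-- The sum of the four maps. -/
def Sys.sig (D : Sys) (v : ℕ) : ℕ := D.L 0 v ^^^ D.L 1 v ^^^ D.L 2 v ^^^ D.L 3 v

/-- The exclusive or of four. -/
def x4 (h : ℕ → ℕ) : ℕ := h 0 ^^^ h 1 ^^^ h 2 ^^^ h 3

namespace Sys

variable (D : Sys)

theorem sig_lt {v : ℕ} (hv : v < 256) : D.sig v < 256 :=
  xlt (xlt (xlt ((D.hL (by norm_num)).lt v hv) ((D.hL (by norm_num)).lt v hv)) ((D.hL (by norm_num)).lt v hv))
    ((D.hL (by norm_num)).lt v hv)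

theorem sig_add {u v : ℕ} (hu : u < 256) (hv : v < 256) : D.sig (u ^^^ v) = D.sig u ^^^ D.sig v := by
  simp only [sig, (D.hL (show 0 < 4 by norm_num)).add u v hu hv, (D.hL (show 1 < 4 by norm_num)).add u v hu hv,
    (D.hL (show 2 < 4 by norm_num)).add u v hu hv, (D.hL (show 3 < 4 by norm_num)).add u v hu hv]
  ac_rfl

end Sys

namespace Planes

variable {D : Sys} (P : Planes D)
include P

theorem sig_fix {i j : ℕ} (hi : i < 4) (hj : j < 4) (ij : i ≠ j) {v : ℕ} (hv : v < 256) (f : D.L i v = v) :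
    D.sig v = D.L j (D.L j v) := by
  have key : ∀ k < 4, i ≠ k → D.L k v = D.L j v := fun k hk ik => P.equal hi hj hk ij ik hv f
  have sum := (D.hL hj).wp_iff hv |>.mp (P.fixed_moved hi hj ij hv f)
  have e : v ^^^ D.L j v = D.L j (D.L j v) := xzero sum
  rw [← e]
  have c : ∀ x : ℕ, x ^^^ x = 0 := Nat.xor_self
  interval_cases i
  · simp [Sys.sig, f, key 1 (by norm_num) (by norm_num), key 2 (by norm_num) (by norm_num),
      key 3 (by norm_num) (by norm_num), Nat.xor_comm, Nat.xor_left_comm, xcancel]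
  · simp [Sys.sig, f, key 0 (by norm_num) (by norm_num), key 2 (by norm_num) (by norm_num),
      key 3 (by norm_num) (by norm_num), Nat.xor_comm, Nat.xor_left_comm, xcancel]
  · simp [Sys.sig, f, key 0 (by norm_num) (by norm_num), key 1 (by norm_num) (by norm_num),
      key 3 (by norm_num) (by norm_num), Nat.xor_comm, Nat.xor_left_comm, xcancel]
  · simp [Sys.sig, f, key 0 (by norm_num) (by norm_num), key 1 (by norm_num) (by norm_num),
      key 2 (by norm_num) (by norm_num), Nat.xor_comm, Nat.xor_left_comm, xcancel]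

theorem fp_other {i j : ℕ} (hi : i < 4) (hj : j < 4) (ij : i ≠ j) {v : ℕ} (hv : v < 256) (f : D.L i v = v) :
    fp (D.L j) v = 0 := by rw [fp, P.fixed_moved hi hj ij hv f, Nat.xor_self]

/-- Decomposition along the planes. -/
theorem decomp {v : ℕ} (hv : v < 256) : x4 (fun i => fp (D.L i) v) = v := by
  refine xzero ?_
  set r := x4 (fun i => fp (D.L i) v) ^^^ v with hr
  have hl := fun i (hi : i < 4) => (D.hL hi).fp_lt hv
  have rl : r < 256 := xlt (xlt (xlt (xlt (hl 0 (by norm_num)) (hl 1 (by norm_num))) (hl 2 (by norm_num))) (hl 3 (by norm_num))) hv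
  have hfp : ∀ i < 4, wp (D.L i) r = r := by
    intro i hi
    have ha : ∀ a b, a < 256 → b < 256 → fp (D.L i) (a ^^^ b) = fp (D.L i) a ^^^ fp (D.L i) b := fun a b x y => by
      simp only [fp, (D.hL hi).wp_add x y]; ac_rfl
    have e : fp (D.L i) r = 0 := by
      have idem : fp (D.L i) (fp (D.L i) v) = fp (D.L i) v := by
        rw [fp, (D.hL hi).wp_fixed ((D.hL hi).fp_fix hv), Nat.xor_zero]
      have oth : ∀ j < 4, j ≠ i → fp (D.L i) (fp (D.L j) v) = 0 := fun j hj ne =>
        P.fp_other hj hi ne (hl j hj) ((D.hL hj).fp_fix hv)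
      simp only [hr, x4]
      rw [ha _ _ (xlt (xlt (xlt (hl 0 (by norm_num)) (hl 1 (by norm_num))) (hl 2 (by norm_num))) (hl 3 (by norm_num))) hv,
        ha _ _ (xlt (xlt (hl 0 (by norm_num)) (hl 1 (by norm_num))) (hl 2 (by norm_num))) (hl 3 (by norm_num)),
        ha _ _ (xlt (hl 0 (by norm_num)) (hl 1 (by norm_num))) (hl 2 (by norm_num)),
        ha _ _ (hl 0 (by norm_num)) (hl 1 (by norm_num))]
      interval_cases i <;>
        simp [idem, oth 0 (by norm_num), oth 1 (by norm_num), oth 2 (by norm_num), oth 3 (by norm_num)]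
    exact (xzero e).symm
  exact cnt_one (D.cls_sub _) P.all rl fun i hi _ => by
    have e : ([true, true, true, true] : List Bool).getD i false = true := by interval_cases i <;> rfl
    rw [e]
    simpa [cond] using hfp i hi

theorem sig_moved {i : ℕ} (hi : i < 4) {v : ℕ} (hv : v < 256) (h : wp (D.L i) v = v) :
    D.sig v = D.L i (D.L i v) := by
  have hl := fun j (hj : j < 4) => (D.hL hj).fp_lt hv
  have h0 : fp (D.L i) v = 0 := by rw [fp, h, Nat.xor_self]
  have part : ∀ j < 4, D.sig (fp (D.L j) v) = D.L i (D.L i (fp (D.L j) v)) := by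
    intro j hj
    by_cases e : j = i
    · subst e
      rw [h0]
      simp [Sys.sig, (D.hL (show 0 < 4 by norm_num)).zero, (D.hL (show 1 < 4 by norm_num)).zero,
        (D.hL (show 2 < 4 by norm_num)).zero, (D.hL (show 3 < 4 by norm_num)).zero, (D.hL hj).zero]
    · exact P.sig_fix hj hi e (hl j hj) ((D.hL hj).fp_fix hv)
  have two : ∀ a b, a < 256 → b < 256 → D.L i (D.L i (a ^^^ b)) = D.L i (D.L i a) ^^^ D.L i (D.L i b) := fun a b x y => by
    rw [(D.hL hi).add a b x y, (D.hL hi).add _ _ ((D.hL hi).lt a x) ((D.hL hi).lt b y)]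
  have a1 := hl 0 (by norm_num); have a2 := hl 1 (by norm_num); have a3 := hl 2 (by norm_num); have a4 := hl 3 (by norm_num)
  have b1 := xlt a1 a2; have b2 := xlt b1 a3
  conv_lhs => rw [← P.decomp hv]
  conv_rhs => rw [← P.decomp hv]
  simp only [x4]
  rw [D.sig_add b2 a4, D.sig_add b1 a3, D.sig_add a1 a2, two _ _ b2 a4, two _ _ b1 a3, two _ _ a1 a2,
    part 0 (by norm_num), part 1 (by norm_num), part 2 (by norm_num), part 3 (by norm_num)]

omit P in
/-- A map of order three of a three-element orbit commutes with the rotation. -/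
theorem rot {S T : ℕ → ℕ} (hS : Ord3 S) (hT : Ord3 T) {v : ℕ} (hv : v < 256) (hs : v ^^^ S v ^^^ S (S v) = 0)
    (h0 : v ≠ 0) (hm : ∀ w, w = v ∨ w = S v ∨ w = S (S v) → T w = v ∨ T w = S v ∨ T w = S (S v)) :
    T (S v) = S (T v) := by
  have l1 := hS.lt v hv
  have l2 := hS.lt _ l1
  have e3 := hS.cube v hv
  have n1 : S v ≠ v := hS.moved hv ((hS.wp_iff hv).mpr hs) h0
  have n2 : S (S v) ≠ v := fun e => n1 (by rw [e] at e3; exact e3)
  have n3 : S (S v) ≠ S v := fun e => n1 (hS.inj l1 hv e)
  have sum : S (S v) = v ^^^ S v := (xzero hs).symm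
  have tsum : T (S (S v)) = T v ^^^ T (S v) := by rw [sum, hT.add v _ hv l1]
  have s1 : v ^^^ S (S v) = S v := by rw [sum, xcancel]
  have s2 : S v ^^^ v = S (S v) := by rw [Nat.xor_comm]; exact sum.symm
  have s3 : S v ^^^ S (S v) = v := by rw [sum, Nat.xor_comm v, xcancel]
  have s4 : S (S v) ^^^ S v = v := by rw [Nat.xor_comm]; exact s3
  have s5 : S (S v) ^^^ v = S v := by rw [Nat.xor_comm]; exact s1
  have t0 := hT.cube v hv
  have t1 := hT.cube _ l1
  have bad : T (S v) ≠ T v := fun e => n1 (hT.inj l1 hv e)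
  rcases hm v (Or.inl rfl) with a | a | a <;> rcases hm (S v) (Or.inr (Or.inl rfl)) with b | b | b <;>
    rw [a, b] at tsum bad
  · exact absurd rfl bad
  · rw [a, b]
  · rw [s1] at tsum
    rw [b, tsum, b] at t1
    exact absurd t1 n3
  · rw [s2] at tsum
    rw [a, b, a] at t0
    exact absurd t0 n1
  · exact absurd rfl bad
  · rw [a, b]
  · rw [a, b, e3]
  · rw [s4] at tsum
    rw [a, tsum, a] at t0
    exact absurd t0 n2
  · exact absurd rfl bad

/-- The scalar commutes with every transvection. -/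
theorem sig_comm {n : ℕ} (hn : n < 81) {v : ℕ} (hv : v < 256) : D.f n (D.sig v) = D.sig (D.f n v) := by
  obtain ⟨x, hx, hc⟩ := D.perp n hn
  obtain ⟨i, hi, rfl⟩ : ∃ i < 4, lineP.getD i 0 = x :=
    (show ∀ x ∈ lineP, ∃ i < 4, lineP.getD i 0 = x by decide) x hx
  change ∀ v < 256, D.f n (D.L i v) = D.L i (D.f n v) at hc
  have hF := D.ord n hn
  have hLi := D.hL hi
  have lw := hLi.wp_lt hv
  have lf := hLi.fp_lt hv
  have split : fp (D.L i) v ^^^ wp (D.L i) v = v := by rw [fp, Nat.xor_assoc, Nat.xor_self, Nat.xor_zero]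
  have mv : D.f n (D.sig (wp (D.L i) v)) = D.sig (D.f n (wp (D.L i) v)) := by
    rw [P.sig_moved hi lw (hLi.wp_idem hv), P.sig_moved hi (hF.lt _ lw) (by
      rw [← hLi.wp_comm hF hc lw, hLi.wp_idem hv]), hc _ (hLi.lt _ lw), hc _ lw]
  have fx : D.f n (D.sig (fp (D.L i) v)) = D.sig (D.f n (fp (D.L i) v)) := by
    set u := fp (D.L i) v with hu
    have fu : D.L i u = u := hLi.fp_fix hv
    obtain ⟨j, hj, ij⟩ : ∃ j < 4, i ≠ j := by
      by_cases h : i = 0
      exacts [⟨1, by norm_num, by omega⟩, ⟨0, by norm_num, h⟩]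
    have fu' : D.L i (D.f n u) = D.f n u := by rw [← hc u lf, fu]
    rw [P.sig_fix hi hj ij lf fu, P.sig_fix hi hj ij (hF.lt _ lf) fu']
    by_cases h0 : u = 0
    · rw [h0, hF.zero, (D.hL hj).zero, (D.hL hj).zero, hF.zero]
    have hLj := D.hL hj
    have sum := (hLj.wp_iff lf).mp (P.fixed_moved hi hj ij lf fu)
    have l1 := hLj.lt u lf
    have e : D.f n (D.L j u) = D.L j (D.f n u) := by
      refine rot hLj hF lf sum h0 fun w hw => ?_
      have hw2 : w < 256 ∧ D.L i w = w ∧ w ≠ 0 := by
        rcases hw with e | e | e <;> subst e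
        · exact ⟨lf, fu, h0⟩
        · exact ⟨l1, fix_map hi hj u lf fu, fun e => h0 (hLj.inj lf (by norm_num) (e.trans hLj.zero.symm))⟩
        · exact ⟨hLj.lt _ l1, fix_map hi hj _ l1 (fix_map hi hj u lf fu), fun e => h0 (hLj.inj lf (by norm_num)
            ((hLj.inj l1 (by norm_num) (e.trans hLj.zero.symm)).trans hLj.zero.symm))⟩
      have fw : D.L i (D.f n w) = D.f n w := by rw [← hc w hw2.1, hw2.2.1]
      rcases P.orbit hi hj ij lf fu h0 (hF.lt w hw2.1) fw with h | h
      · exact absurd (hF.inj hw2.1 (by norm_num) (h.trans hF.zero.symm)) hw2.2.2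
      · exact h
    -- the two maps on the plane commute
    rw [← (xzero sum), hF.add u _ lf l1, e]
    have sum' := (hLj.wp_iff (hF.lt u lf)).mp (P.fixed_moved hi hj ij (hF.lt u lf) fu')
    exact xzero sum'
  conv_lhs => rw [← split, D.sig_add lf lw, hF.add _ _ (D.sig_lt lf) (D.sig_lt lw), fx, mv]
  rw [← D.sig_add (hF.lt _ lf) (hF.lt _ lw), ← hF.add _ _ lf lw, split]

theorem orth {q : ℕ → ℕ} (hq : Form D q) {i j : ℕ} (hi : i < 4) (hj : j < 4) (ij : i ≠ j) {u v : ℕ} (hu : u < 256)
    (hv : v < 256) (a : D.L i u = u) (b : D.L j v = v) : bq q u v = 0 := by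
  have hLj := D.hL hj
  have inv : ∀ w < 256, bq q (D.L j w) v = bq q w v := by
    intro w hw
    have n := Sys.L_mem hj
    conv_lhs => rw [← b]
    simp only [bq]
    rw [← hLj.add w v hw hv]
    exact congrArg₂ (· ^^^ ·) (congrArg₂ (· ^^^ ·) (hq.inv _ n.2 _ (xlt hw hv)) (hq.inv _ n.2 w hw)) (hq.inv _ n.2 v hv)
  conv_lhs => rw [← P.fixed_moved hi hj ij hu a]
  rw [wp, hq.add _ _ _ (hLj.lt u hu) (hLj.lt _ (hLj.lt u hu)) hv, inv _ (hLj.lt u hu), inv u hu, Nat.xor_self]

theorem form_one {q : ℕ → ℕ} (hq : Form D q) {i : ℕ} (hi : i < 4) {u : ℕ} (hu : u < 256) (a : D.L i u = u)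
    (h0 : u ≠ 0) : q u = 1 := by
  by_contra h1
  have hz : q u = 0 := by have := hq.lt u hu; omega
  obtain ⟨j, hj, ij⟩ : ∃ j < 4, i ≠ j := by
    by_cases h : i = 0
    exacts [⟨1, by norm_num, by omega⟩, ⟨0, by norm_num, h⟩]
  have n := Sys.L_mem hj
  have all : ∀ w < 256, D.L i w = w → q w = 0 := by
    intro w hw fw
    rcases P.orbit hi hj ij hu a h0 hw fw with e | e | e | e <;> subst e
    · exact hq.zero
    · exact hz
    · exact (hq.inv _ n.2 u hu).trans hz
    · exact ((hq.inv _ n.2 _ ((D.hL hj).lt u hu)).trans (hq.inv _ n.2 u hu)).trans hz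
  obtain ⟨v, hv, e⟩ := hq.nd u hu h0
  have perp : ∀ k < 4, bq q u (fp (D.L k) v) = 0 := by
    intro k hk
    have lk := (D.hL hk).fp_lt hv
    have fk := (D.hL hk).fp_fix hv
    by_cases ik : i = k
    · subst ik
      simp [bq, hz, all _ lk fk, all _ (xlt hu lk) (by rw [(D.hL hi).add _ _ hu lk, a, fk])]
    · exact P.orth hq hi hk ik hu lk a fk
  have sym : ∀ x y, bq q x y = bq q y x := fun x y => by simp only [bq, Nat.xor_comm x y]; ac_rfl
  have hl := fun k (hk : k < 4) => (D.hL hk).fp_lt hv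
  rw [← P.decomp hv, sym] at e
  simp only [x4] at e
  rw [hq.add _ _ _ (xlt (xlt (hl 0 (by norm_num)) (hl 1 (by norm_num))) (hl 2 (by norm_num))) (hl 3 (by norm_num)) hu,
    hq.add _ _ _ (xlt (hl 0 (by norm_num)) (hl 1 (by norm_num))) (hl 2 (by norm_num)) hu,
    hq.add _ _ _ (hl 0 (by norm_num)) (hl 1 (by norm_num)) hu, sym _ u, sym _ u, sym _ u, sym _ u,
    perp 0 (by norm_num), perp 1 (by norm_num), perp 2 (by norm_num), perp 3 (by norm_num)] at e
  simp at e

end Planes

end CfsgLib.U42Act
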