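/-
Coordinates from an orthonormal frame: the transvections become isometries commuting with the scalars.
-/
import Cfsg.Agent.Lib.U42Act.Planes
import Cfsg.Agent.Lib.U42Act.GU

set_option autoImplicit false
set_option maxRecDepth 100000
set_option linter.unusedVariables false
set_option maxHeartbeats 2000000

namespace CfsgLib.U42Act

open U6Rec

/-- An orthonormal frame. -/
def frame (i : ℕ) : ℕ := [33, 49, 132, 196].getD i 0

theorem frame_facts : ∀ i < 4, frame i < 256 ∧ ∀ j < 4, herm (frame i) (frame j) = if i = j then 1 else 0 := by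
  decide +kernel

/-- Parity of the nonzero coordinates. -/
def wt (v i : ℕ) : ℕ := bif Nat.beq (herm v (frame i)) 0 then 0 else 1

theorem qf_frame : ∀ v < 256, qf v = x4 (wt v) := by decide +kernel

theorem frame_nd : ∀ v < 256, herm v (frame 0) = 0 → herm v (frame 1) = 0 → herm v (frame 2) = 0 →
    herm v (frame 3) = 0 → v = 0 := by decide +kernel

/-- The member of a plane with given coefficient. -/
def piece (x y c : ℕ) : ℕ := [0, x, y, x ^^^ y].getD c 0

theorem piece_lt {x y : ℕ} (hx : x < 256) (hy : y < 256) {c : ℕ} (hc : c < 4) : piece x y c < 256 := by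
  interval_cases c
  exacts [by norm_num [piece], hx, hy, xlt hx hy]

theorem piece_add (x y : ℕ) {a b : ℕ} (ha : a < 4) (hb : b < 4) :
    piece x y (a ^^^ b) = piece x y a ^^^ piece x y b := by
  interval_cases a <;> interval_cases b <;>
    simp [piece, xcancel, Nat.xor_comm, Nat.xor_left_comm]

theorem herm_three : ∀ c < 4, m4 3 c = [0, 3, 1, 2].getD c 0 := by decide +kernel

namespace Planes

variable {D : Sys} (P : Planes D)
include P

theorem exists_base {i : ℕ} (hi : i < 4) : ∃ x < 256, D.L i x = x ∧ x ≠ 0 := by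
  by_contra h
  push Not at h
  have e := cnt_eq_one (Planes.fix_sub (D := D) hi) fun v hv fv => h v hv fv
  rw [P.fix_cnt hi] at e
  norm_num at e

/-- Coordinates. -/
theorem coords {q : ℕ → ℕ} (hq : Form D q) : ∃ ψ : ℕ → ℕ, (∀ v < 256, ψ v < 256) ∧
    (∀ u v, u < 256 → v < 256 → ψ (u ^^^ v) = ψ u ^^^ ψ v) ∧
    (∀ w < 256, ∃ v < 256, ψ v = w) ∧ (∀ u v, u < 256 → v < 256 → ψ u = ψ v → u = v) ∧
    (∀ v < 256, q (ψ v) = qf v) ∧ ∀ v < 256, ψ (smul4 3 v) = D.sig (ψ v) := by
  classical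
  choose! x hx fx x0 using fun i (hi : i < 4) => P.exists_base hi
  let o : ℕ → ℕ := fun i => if i = 0 then 1 else 0
  have ho : ∀ i < 4, o i < 4 ∧ i ≠ o i := fun i hi => by
    simp only [o]; split <;> omega
  let y : ℕ → ℕ := fun i => D.L (o i) (x i)
  have hy : ∀ i < 4, y i < 256 := fun i hi => (D.hL (ho i hi).1).lt _ (hx i hi)
  have fy : ∀ i < 4, D.L i (y i) = y i := fun i hi => Planes.fix_map hi (ho i hi).1 _ (hx i hi) (fx i hi)
  have hp : ∀ i < 4, ∀ c < 4, piece (x i) (y i) c < 256 := fun i hi c hc => piece_lt (hx i hi) (hy i hi) hc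
  have fpc : ∀ i < 4, ∀ c < 4, D.L i (piece (x i) (y i) c) = piece (x i) (y i) c := by
    intro i hi c hc
    interval_cases c <;> simp [piece, (D.hL hi).zero, fx i hi, fy i hi, (D.hL hi).add _ _ (hx i hi) (hy i hi)]
  have sum : ∀ i < 4, x i ^^^ y i = D.L (o i) (y i) := fun i hi =>
    xzero (((D.hL (ho i hi).1).wp_iff (hx i hi)).mp (P.fixed_moved hi (ho i hi).1 (ho i hi).2 (hx i hi) (fx i hi)))
  have pinj : ∀ i < 4, ∀ c < 4, c ≠ 0 → piece (x i) (y i) c ≠ 0 := by
    intro i hi c hc c0 e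
    interval_cases c
    · exact absurd rfl c0
    · exact x0 i hi e
    · exact x0 i hi ((D.hL (ho i hi).1).inj (hx i hi) (by norm_num) (e.trans (D.hL (ho i hi).1).zero.symm))
    · have e' : x i ^^^ y i = 0 := e
      exact (D.hL (ho i hi).1).moved (hx i hi) (P.fixed_moved hi (ho i hi).1 (ho i hi).2 (hx i hi) (fx i hi))
        (x0 i hi) (xzero e').symm
  let part : ℕ → ℕ → ℕ := fun v i => piece (x i) (y i) (herm v (frame i))
  let ψ : ℕ → ℕ := fun v => x4 (part v)
  have pl : ∀ v, ∀ i < 4, part v i < 256 := fun v i hi => hp i hi _ (herm_lt _ _)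
  have ψlt : ∀ v < 256, ψ v < 256 := fun v _ =>
    xlt (xlt (xlt (pl v 0 (by norm_num)) (pl v 1 (by norm_num))) (pl v 2 (by norm_num))) (pl v 3 (by norm_num))
  have ψadd : ∀ u v, u < 256 → v < 256 → ψ (u ^^^ v) = ψ u ^^^ ψ v := by
    intro u v _ _
    simp only [ψ, x4, part, herm_add_left, piece_add _ _ (herm_lt u _) (herm_lt v _)]
    ac_rfl
  have comp_i : ∀ v < 256, ∀ i < 4, fp (D.L i) (ψ v) = part v i := by
    intro v hv i hi
    have ha : ∀ a b, a < 256 → b < 256 → fp (D.L i) (a ^^^ b) = fp (D.L i) a ^^^ fp (D.L i) b := fun a b h1 h2 => by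
      simp only [fp, (D.hL hi).wp_add h1 h2]; ac_rfl
    have self : fp (D.L i) (part v i) = part v i := by
      rw [fp, (D.hL hi).wp_fixed (fpc i hi _ (herm_lt _ _)), Nat.xor_zero]
    have oth : ∀ j < 4, j ≠ i → fp (D.L i) (part v j) = 0 := fun j hj ne =>
      P.fp_other hj hi ne (pl v j hj) (fpc j hj _ (herm_lt _ _))
    have a1 := pl v 0 (by norm_num); have a2 := pl v 1 (by norm_num); have a3 := pl v 2 (by norm_num)
    have a4 := pl v 3 (by norm_num)
    simp only [ψ, x4]
    rw [ha _ _ (xlt (xlt a1 a2) a3) a4, ha _ _ (xlt a1 a2) a3, ha _ _ a1 a2]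
    interval_cases i <;>
      simp [self, oth 0 (by norm_num), oth 1 (by norm_num), oth 2 (by norm_num), oth 3 (by norm_num)]
  have zero_of : ∀ v < 256, ψ v = 0 → v = 0 := by
    intro v hv e
    have h : ∀ i < 4, herm v (frame i) = 0 := fun i hi => by
      by_contra h0
      refine pinj i hi _ (herm_lt _ _) h0 ?_
      show part v i = 0
      rw [← comp_i v hv i hi, e, fp, (D.hL hi).wp_zero, Nat.xor_zero]
    exact frame_nd v hv (h 0 (by norm_num)) (h 1 (by norm_num)) (h 2 (by norm_num)) (h 3 (by norm_num))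
  have ψinj : ∀ u v, u < 256 → v < 256 → ψ u = ψ v → u = v := fun u v hu hv e =>
    xzero (zero_of _ (xlt hu hv) (by rw [ψadd u v hu hv, e, Nat.xor_self]))
  have ψsurj : ∀ w < 256, ∃ v < 256, ψ v = w := by
    intro w hw
    have hi : Function.Injective (fun v : Fin 256 => (⟨ψ v, ψlt v v.2⟩ : Fin 256)) := fun a b e =>
      Fin.ext (ψinj a b a.2 b.2 (congrArg Fin.val e))
    obtain ⟨v, hv⟩ := (Finite.injective_iff_surjective.mp hi) ⟨w, hw⟩
    exact ⟨v, v.2, congrArg Fin.val hv⟩
  refine ⟨ψ, ψlt, ψadd, ψsurj, ψinj, fun v hv => ?_, fun v hv => ?_⟩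
  · have qp : ∀ i < 4, q (part v i) = wt v i := by
      intro i hi
      simp only [wt]
      by_cases h0 : herm v (frame i) = 0
      · simp [part, h0, piece, hq.zero]
      · rw [P.form_one hq hi (pl v i hi) (fpc i hi _ (herm_lt _ _)) (pinj i hi _ (herm_lt _ _) h0),
          show Nat.beq (herm v (frame i)) 0 = false from Bool.eq_false_iff.mpr fun t => h0 (Nat.eq_of_beq_eq_true t)]
        rfl
    have qadd : ∀ a b, a < 256 → b < 256 → bq q a b = 0 → q (a ^^^ b) = q a ^^^ q b := fun a b _ _ e => by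
      rw [bq, Nat.xor_assoc] at e; exact xzero e
    have o2 : ∀ i j, i < 4 → j < 4 → i ≠ j → bq q (part v i) (part v j) = 0 := fun i j hi hj ne =>
      P.orth hq hi hj ne (pl v i hi) (pl v j hj) (fpc i hi _ (herm_lt _ _)) (fpc j hj _ (herm_lt _ _))
    have a1 := pl v 0 (by norm_num); have a2 := pl v 1 (by norm_num); have a3 := pl v 2 (by norm_num)
    have a4 := pl v 3 (by norm_num)
    show q (x4 (part v)) = _
    rw [qf_frame v hv]
    simp only [x4]
    rw [qadd _ _ (xlt (xlt a1 a2) a3) a4 (by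
        rw [hq.add _ _ _ (xlt a1 a2) a3 a4, hq.add _ _ _ a1 a2 a4, o2 0 3 (by norm_num) (by norm_num) (by norm_num),
          o2 1 3 (by norm_num) (by norm_num) (by norm_num), o2 2 3 (by norm_num) (by norm_num) (by norm_num)]
        rfl),
      qadd _ _ (xlt a1 a2) a3 (by
        rw [hq.add _ _ _ a1 a2 a3, o2 0 2 (by norm_num) (by norm_num) (by norm_num),
          o2 1 2 (by norm_num) (by norm_num) (by norm_num)]
        rfl),
      qadd _ _ a1 a2 (o2 0 1 (by norm_num) (by norm_num) (by norm_num)),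
      qp 0 (by norm_num), qp 1 (by norm_num), qp 2 (by norm_num), qp 3 (by norm_num)]
  · have sp : ∀ i < 4, part (smul4 3 v) i = D.sig (part v i) := by
      intro i hi
      obtain ⟨oj, oij⟩ := ho i hi
      have hLo := D.hL oj
      simp only [part]
      rw [herm_smul (by norm_num) hv (frame_facts i hi).1, herm_three _ (herm_lt _ _)]
      have hc := herm_lt v (frame i)
      generalize herm v (frame i) = c at hc ⊢
      rw [P.sig_fix hi oj oij (hp i hi c hc) (fpc i hi c hc)]
      interval_cases c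
      · show (0 : ℕ) = D.L (o i) (D.L (o i) 0)
        rw [hLo.zero, hLo.zero]
      · exact sum i hi
      · exact (hLo.cube _ (hx i hi)).symm
      · show y i = D.L (o i) (D.L (o i) (x i ^^^ y i))
        rw [sum i hi, hLo.cube _ (hy i hi)]
    have a := pl v
    show x4 (part (smul4 3 v)) = D.sig (x4 (part v))
    simp only [x4]
    rw [D.sig_add (xlt (xlt (a 0 (by norm_num)) (a 1 (by norm_num))) (a 2 (by norm_num))) (a 3 (by norm_num)),
      D.sig_add (xlt (a 0 (by norm_num)) (a 1 (by norm_num))) (a 2 (by norm_num)),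
      D.sig_add (a 0 (by norm_num)) (a 1 (by norm_num)), sp 0 (by norm_num), sp 1 (by norm_num), sp 2 (by norm_num),
      sp 3 (by norm_num)]

omit P in
theorem smul_two : ∀ v < 256, smul4 2 v = smul4 3 (smul4 3 v) := by decide +kernel

/-- The transvections as members of the unitary group up to a scalar. -/
theorem codes {q : ℕ → ℕ} (hq : Form D q) : ∃ ψ : ℕ → ℕ, (∀ v < 256, ψ v < 256) ∧
    (∀ u v, u < 256 → v < 256 → ψ (u ^^^ v) = ψ u ^^^ ψ v) ∧
    (∀ w < 256, ∃ v < 256, ψ v = w) ∧ (∀ u v, u < 256 → v < 256 → ψ u = ψ v → u = v) ∧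
    (∀ v < 256, q (ψ v) = qf v) ∧
    ∀ n < 81, ∃ g, Unit4 g ∧ comp g one = g ∧ ∀ v < 256, ψ (app g v) = D.f n (ψ v) := by
  obtain ⟨ψ, hlt, hadd, hsurj, hinj, hqf, hsig⟩ := P.coords hq
  refine ⟨ψ, hlt, hadd, hsurj, hinj, hqf, fun n hn => ?_⟩
  classical
  have hF := D.ord n hn
  choose! t ht et using hsurj
  have tadd : ∀ a b, a < 256 → b < 256 → t (a ^^^ b) = t a ^^^ t b := fun a b ha hb =>
    hinj _ _ (ht _ (xlt ha hb)) (xlt (ht a ha) (ht b hb))
      (by rw [et _ (xlt ha hb), hadd _ _ (ht a ha) (ht b hb), et a ha, et b hb])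
  let im : ℕ → ℕ := fun v => t (D.f n (ψ (v % 256)))
  have hm : ∀ v : ℕ, v % 256 < 256 := fun v => Nat.mod_lt v (by norm_num)
  have imlt : ∀ v, im v < 256 := fun v => ht _ (hF.lt _ (hlt _ (hm v)))
  have imadd : ∀ u v, im (u ^^^ v) = im u ^^^ im v := by
    intro u v
    have ex : (u ^^^ v) % 256 = (u % 256) ^^^ (v % 256) := Nat.xor_mod_two_pow (n := 8)
    simp only [im, ex, hadd _ _ (hm u) (hm v), hF.add _ _ (hlt _ (hm u)) (hlt _ (hm v)),
      tadd _ _ (hF.lt _ (hlt _ (hm u))) (hF.lt _ (hlt _ (hm v)))]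
  let g := pack fun i => im (1 <<< i)
  have hg : ∀ v < 256, app g v = im v :=
    lin_ext (app_add g) imadd fun i hi => by rw [app_basis _ i hi, byte_pack (fun k => imlt _) hi]
  have rel : ∀ v < 256, ψ (app g v) = D.f n (ψ v) := fun v hv => by
    rw [hg v hv]; simp only [im, Nat.mod_eq_of_lt hv]; exact et _ (hF.lt _ (hlt v hv))
  have sq : ∀ v < 256, qf (app g v) = qf v := fun v hv => by
    rw [← hqf _ (app_lt g v), rel v hv, hq.inv n hn _ (hlt v hv), hqf v hv]
  have s3 : ∀ v < 256, app g (smul4 3 v) = smul4 3 (app g v) := fun v hv =>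
    hinj _ _ (app_lt _ _) (smul4_lt (by norm_num) _)
      (by rw [rel _ (smul4_lt (by norm_num) v), hsig v hv, P.sig_comm hn (hlt v hv), ← rel v hv, ← hsig _ (app_lt g v)])
  have s2 : ∀ v < 256, app g (smul4 2 v) = smul4 2 (app g v) := fun v hv => by
    rw [smul_two v hv, smul_two _ (app_lt g v), s3 _ (smul4_lt (by norm_num) v), s3 v hv]
  have pol : ∀ u v, u < 256 → v < 256 → polar (app g u) (app g v) = polar u v := fun u v hu hv => by
    have e1 := qf_add (app_lt g u) (app_lt g v)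
    have e2 := qf_add hu hv
    rw [← app_add, sq _ (xlt hu hv), sq u hu, sq v hv, e2] at e1
    exact (Nat.xor_right_inj.mp e1).symm
  refine ⟨g, ⟨fun u v hu hv => ?_, fun c v hc hv => ?_⟩, ?_, rel⟩
  · have key : ∀ a b, a < 256 → b < 256 → herm a b = (polar (smul4 3 a) b) + 2 * polar a b := by
      intro a b ha hb
      exact key_table a ha b hb
    rw [key _ _ (app_lt g u) (app_lt g v), key u v hu hv, ← s3 u hu, pol _ _ (smul4_lt (by norm_num) u) hv, pol u v hu hv]
  · rcases scalar_two c hc with rfl | rfl | rfl | rfl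
    · rw [(smul4_one v hv).2, app_zero, (smul4_one _ (app_lt g v)).2]
    · rw [(smul4_one v hv).1, (smul4_one _ (app_lt g v)).1]
    · exact s2 v hv
    · rw [show m4 2 2 = 3 by decide +kernel]; exact s3 v hv
  · simp only [comp, pack]
    have hb : ∀ i < 8, (one >>> (8 * i)) &&& 255 = 1 <<< i := by decide
    rw [hb 0 (by omega), hb 1 (by omega), hb 2 (by omega), hb 3 (by omega), hb 4 (by omega), hb 5 (by omega),
      hb 6 (by omega), hb 7 (by omega)]
    simp only [hg _ (byte_one_lt 0 (by omega)), hg _ (byte_one_lt 1 (by omega)), hg _ (byte_one_lt 2 (by omega)),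
      hg _ (byte_one_lt 3 (by omega)), hg _ (byte_one_lt 4 (by omega)), hg _ (byte_one_lt 5 (by omega)),
      hg _ (byte_one_lt 6 (by omega)), hg _ (byte_one_lt 7 (by omega))]
    rfl
where
  key_table : ∀ a < 256, ∀ b < 256, herm a b = (polar (smul4 3 a) b) + 2 * polar a b := by decide +kernel

end Planes

end CfsgLib.U42Act
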