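/-
The case of a common fixed plane: coordinates as three planes and the fixed plane.
-/
import Cfsg.Agent.Lib.U42Act.Planes
import Cfsg.Agent.Lib.U6Rec.Defs

set_option autoImplicit false
set_option maxRecDepth 100000
set_option maxHeartbeats 1000000
set_option linter.unusedVariables false

namespace CfsgLib.U42Act

/-- The case of a fixed part. -/
structure SixTwo (D : Sys) : Prop where
  two : D.N true true false false = 1
  three : D.N false true true true = 1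
  prod : D.N false false false false * D.N true true true true = 256

/-- One or zero by nonvanishing. -/
def nz (c : ℕ) : ℕ := bif Nat.beq c 0 then 0 else 1

/-- The form on three anisotropic planes and a plane of given type. -/
def qW (e v : ℕ) : ℕ :=
  nz (U6Rec.co v 0) ^^^ nz (U6Rec.co v 1) ^^^ nz (U6Rec.co v 2) ^^^
    (bif Nat.beq e 1 then nz (U6Rec.co v 3) else bif Nat.beq (U6Rec.co v 3) 3 then 1 else 0)

theorem piece_xor (x y : ℕ) {a b : ℕ} (ha : a < 4) (hb : b < 4) :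
    [0, x, y, x ^^^ y].getD (a ^^^ b) 0 = [0, x, y, x ^^^ y].getD a 0 ^^^ [0, x, y, x ^^^ y].getD b 0 := by
  interval_cases a <;> interval_cases b <;> simp [xcancel, Nat.xor_comm, Nat.xor_left_comm]

theorem co_split : ∀ v < 256, (v &&& 63 = 0 ↔ U6Rec.co v 0 = 0 ∧ U6Rec.co v 1 = 0 ∧ U6Rec.co v 2 = 0) ∧
    (v = 0 ↔ U6Rec.co v 0 = 0 ∧ U6Rec.co v 1 = 0 ∧ U6Rec.co v 2 = 0 ∧ U6Rec.co v 3 = 0) := by decide +kernel

/-- A moved class. -/
def Sys.K (D : Sys) (x : ℕ) (v : ℕ) : Prop := wp (D.L 0) v = v ∧ D.L x v = D.L 0 v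

/-- The quotient of two maps. -/
def Sys.Dq (D : Sys) (x : ℕ) (v : ℕ) : ℕ := D.L 0 (D.L 0 (D.L x v))

namespace SixTwo

variable {D : Sys} (P : SixTwo D)
include P

omit P in
theorem l0 : (0 : ℕ) < 4 := by norm_num

theorem mixed : ∀ a b c d : Bool, ¬ (a = false ∧ b = false ∧ c = false ∧ d = false) →
    ¬ (a = true ∧ b = true ∧ c = true ∧ d = true) → D.N a b c d = 1 := by
  obtain ⟨⟨s1, s2, s3⟩, ⟨t1, t2, t3, t4, t5⟩, ⟨r1, r2, r3⟩⟩ := D.weights
  have h1 := D.N_single; have h2 := P.two; have h3 := P.three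
  intro a b c d n0 n4
  cases a <;> cases b <;> cases c <;> cases d <;> simp_all

theorem fix_eq {i j : ℕ} (hi : i < 4) (hj : j < 4) {v : ℕ} (hv : v < 256) (a : D.L i v = v) : D.L j v = v := by
  by_cases ij : i = j
  · rw [← ij]; exact a
  refine (D.hL hj).fix_of_wp hv ?_
  have hl := (D.hL hj).wp_lt hv
  refine D.zero_of_patterns hi hj ij false true hl ?_ ?_ fun p q r s hp hq => P.mixed p q r s ?_ ?_
  · have := D.proj_keep false true hi hj hv (by simpa [cond] using a)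
    simpa [cond, proj] using this
  · simpa [cond] using (D.hL hj).wp_idem hv
  · rintro ⟨rfl, rfl, rfl, rfl⟩
    interval_cases j <;> simp at hq
  · rintro ⟨rfl, rfl, rfl, rfl⟩
    interval_cases i <;> simp at hp

theorem moved_eq {x : ℕ} (hx : x < 4) {v : ℕ} (hv : v < 256) (a : wp (D.L 0) v = v) : wp (D.L x) v = v := by
  have hc : wp (D.L 0) (fp (D.L x) v) = fp (D.L x) v := by
    have := D.proj_keep true false l0 hx hv (by simpa [cond] using a)
    simpa [cond, proj] using this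
  have h0 := P.fix_eq hx l0 ((D.hL hx).fp_lt hv) ((D.hL hx).fp_fix hv)
  rw [(D.hL l0).wp_fixed h0] at hc
  exact (xzero hc.symm).symm

omit P in
theorem dq_ord {x : ℕ} (hx : x < 4) : Ord3 (D.Dq x) := by
  have h0 := D.hL l0
  have hX := D.hL hx
  refine ⟨fun v hv => h0.lt _ (h0.lt _ (hX.lt v hv)), fun u v hu hv => ?_, fun v hv => ?_⟩
  · simp only [Sys.Dq]
    rw [hX.add u v hu hv, h0.add _ _ (hX.lt u hu) (hX.lt v hv), h0.add _ _ (h0.lt _ (hX.lt u hu)) (h0.lt _ (hX.lt v hv))]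
  · simp only [Sys.Dq]
    have c := fun w (hw : w < 256) => D.L_comm hx l0 hw
    have a1 := hX.lt v hv
    have a2 := h0.lt _ a1
    have a3 := h0.lt _ a2
    rw [c _ a2, c _ a1]
    have b1 := hX.lt _ a1
    have b2 := h0.lt _ b1
    have b3 := h0.lt _ b2
    rw [c _ (h0.lt _ b3), c _ b3, c _ b2, c _ b1, hX.cube v hv, h0.cube v hv, h0.cube v hv]

omit P in
theorem dq_fix {x : ℕ} (hx : x < 4) {v : ℕ} (hv : v < 256) : D.Dq x v = v ↔ D.L x v = D.L 0 v := by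
  have h0 := D.hL l0
  have hX := D.hL hx
  constructor
  · intro h
    conv_rhs => rw [← h]
    rw [Sys.Dq, h0.cube _ (hX.lt v hv)]
  · intro h
    rw [Sys.Dq, h, h0.cube v hv]

omit P in
theorem prod_any {x y z : ℕ} (h : (x = 1 ∧ y = 2 ∧ z = 3) ∨ (x = 2 ∧ y = 1 ∧ z = 3) ∨ (x = 1 ∧ y = 3 ∧ z = 2) ∨
    (x = 3 ∧ y = 1 ∧ z = 2) ∨ (x = 2 ∧ y = 3 ∧ z = 1) ∨ (x = 3 ∧ y = 2 ∧ z = 1)) {v : ℕ} (hv : v < 256) :
    D.L 0 (D.L x (D.L y (D.L z v))) = v := by
  have l := fun {i : ℕ} (hi : i < 4) {w : ℕ} (hw : w < 256) => (D.hL hi).lt w hw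
  have n1 : (1 : ℕ) < 4 := by norm_num
  have n2 : (2 : ℕ) < 4 := by norm_num
  have n3 : (3 : ℕ) < 4 := by norm_num
  have c := fun {i j : ℕ} (hi : i < 4) (hj : j < 4) {w : ℕ} (hw : w < 256) => D.L_comm hi hj hw
  have e := D.prod hv
  rcases h with ⟨rfl, rfl, rfl⟩ | ⟨rfl, rfl, rfl⟩ | ⟨rfl, rfl, rfl⟩ | ⟨rfl, rfl, rfl⟩ | ⟨rfl, rfl, rfl⟩ | ⟨rfl, rfl, rfl⟩
  · exact e
  · rwa [c n2 n1 (l n3 hv)]
  · rwa [c n3 n2 hv]
  · rwa [c n3 n1 (l n2 hv), c n3 n2 hv]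
  · rwa [c n3 n1 hv, c n2 n1 (l n3 hv)]
  · rwa [c n2 n1 hv, c n3 n1 (l n2 hv), c n3 n2 hv]

/-- Two classes meet trivially. -/
theorem K_meet {x y : ℕ} (hx : x < 4) (hy : y < 4) (x0 : x ≠ 0) (y0 : y ≠ 0) (xy : x ≠ y) {v : ℕ} (hv : v < 256)
    (a : D.K x v) (b : D.K y v) : v = 0 := by
  obtain ⟨z, hz, hp⟩ : ∃ z < 4, (x = 1 ∧ y = 2 ∧ z = 3) ∨ (x = 2 ∧ y = 1 ∧ z = 3) ∨ (x = 1 ∧ y = 3 ∧ z = 2) ∨
      (x = 3 ∧ y = 1 ∧ z = 2) ∨ (x = 2 ∧ y = 3 ∧ z = 1) ∨ (x = 3 ∧ y = 2 ∧ z = 1) :=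
    ⟨6 - x - y, by omega, by omega⟩
  have h0 := D.hL l0
  have l1 := h0.lt v hv
  have hfix : D.L z v = v := by
    have e := prod_any (D := D) hp hv
    rw [D.L_comm hy hz hv, D.L_comm hx hz ((D.hL hy).lt v hv), b.2, D.L_comm hx l0 hv, a.2,
      D.L_comm hz l0 l1, D.L_comm hz l0 hv, h0.cube _ ((D.hL hz).lt v hv)] at e
    exact e
  have := P.fix_eq hz l0 hv hfix
  rw [← a.1, h0.wp_fixed this]

omit P in
theorem K_sub (x : ℕ) (hx : x < 4) : Sub (D.K x) :=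
  ⟨⟨(D.hL l0).wp_zero, by rw [(D.hL hx).zero, (D.hL l0).zero]⟩, fun u v hu hv a b =>
    ⟨by rw [(D.hL l0).wp_add hu hv, a.1, b.1],
     by rw [(D.hL hx).add u v hu hv, (D.hL l0).add u v hu hv, a.2, b.2]⟩⟩

omit P in
theorem K_inv {x : ℕ} (hx : x < 4) : ∀ v < 256, D.K x v → D.K x (D.L 0 v) := fun v hv a =>
  ⟨by rw [(D.hL l0).wp_map hv, a.1], by rw [D.L_comm hx l0 hv, a.2]⟩

theorem K_moved {x y : ℕ} (hx : x < 4) (hy : y < 4) (x0 : x ≠ 0) (y0 : y ≠ 0) (xy : x ≠ y) {v : ℕ} (hv : v < 256)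
    (a : D.K x v) : wp (D.Dq y) v = v := by
  have hD := dq_ord (D := D) hy
  have hDl : fp (D.Dq y) v < 256 := hD.fp_lt hv
  have hcx : ∀ w < 256, D.L x (D.Dq y w) = D.Dq y (D.L x w) := fun w hw => by
    simp only [Sys.Dq]
    rw [D.L_comm hx l0 ((D.hL l0).lt _ ((D.hL hy).lt w hw)), D.L_comm hx l0 ((D.hL hy).lt w hw), D.L_comm hx hy hw]
  have hc0 : ∀ w < 256, D.L 0 (D.Dq y w) = D.Dq y (D.L 0 w) := fun w hw => by
    simp only [Sys.Dq]; rw [D.L_comm hy l0 hw]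
  have h0 := D.hL l0
  have hw1 : D.L 0 (wp (D.Dq y) v) = wp (D.Dq y) (D.L 0 v) := hD.wp_comm h0 hc0 hv
  have hw2 : D.L 0 (D.L 0 (wp (D.Dq y) v)) = wp (D.Dq y) (D.L 0 (D.L 0 v)) := by
    rw [hw1, hD.wp_comm h0 hc0 (h0.lt v hv)]
  have key : D.K x (fp (D.Dq y) v) := by
    refine (K_sub x hx).add _ _ hv (hD.wp_lt hv) a ⟨?_, ?_⟩
    · show D.L 0 (wp (D.Dq y) v) ^^^ D.L 0 (D.L 0 (wp (D.Dq y) v)) = _
      rw [hw2, hw1, ← hD.wp_add (h0.lt v hv) (h0.lt _ (h0.lt v hv))]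
      exact congrArg _ a.1
    · rw [hD.wp_comm (D.hL hx) hcx hv, hw1, a.2]
  have := P.K_meet hx hy x0 y0 xy hDl key ⟨key.1, (dq_fix hy hDl).mp (hD.fp_fix hv)⟩
  exact (xzero this).symm

/-- The three classes have equal size, and they make up the moved part. -/
theorem sizes : cnt (D.K 1) = 4 ∧ cnt (D.K 2) = 4 ∧ cnt (D.K 3) = 4 ∧ cnt (fun v => D.L 0 v = v) = 4 := by
  have h0 := D.hL l0
  have n1 : (1 : ℕ) < 4 := by norm_num
  have n2 : (2 : ℕ) < 4 := by norm_num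
  have n3 : (3 : ℕ) < 4 := by norm_num
  have sw : ∀ x y : ℕ, ∀ s ∈ swaps, s.2.2.getD 0 0 = 0 → x < 4 → s.2.2.getD x 0 = y → cnt (D.K x) ≤ cnt (D.K y) := by
    intro x y s hs e0 hx exy
    have hb : s.1 < 81 ∧ s.2.1 < 81 := (show ∀ s ∈ swaps, s.1 < 81 ∧ s.2.1 < 81 by decide) s hs
    have o1 := D.ord _ hb.1
    have o2 := D.ord _ hb.2
    have s0 : ∀ w < 256, D.f s.2.1 (D.f s.1 (D.L 0 w)) = D.L 0 (D.f s.2.1 (D.f s.1 w)) := fun w hw => by
      have := D.swap s hs 0 (by norm_num) w hw; rwa [e0] at this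
    have sx : ∀ w < 256, D.f s.2.1 (D.f s.1 (D.L x w)) = D.L y (D.f s.2.1 (D.f s.1 w)) := fun w hw => by
      have := D.swap s hs x hx w hw; rwa [exy] at this
    refine cnt_le (fun v => D.f s.2.1 (D.f s.1 v)) (fun v hv a => ⟨o2.lt _ (o1.lt v hv), ?_, ?_⟩)
      fun u v hu hv e => o1.inj hu hv (o2.inj (o1.lt u hu) (o1.lt v hv) e)
    · have l := h0.lt v hv
      conv_rhs => rw [← a.1]
      simp only [wp, o1.add _ _ l (h0.lt _ l)]
      rw [o2.add _ _ (o1.lt _ l) (o1.lt _ (h0.lt _ l)), s0 v hv, s0 _ l, s0 v hv]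
    · show D.L y (D.f s.2.1 (D.f s.1 v)) = D.L 0 (D.f s.2.1 (D.f s.1 v))
      rw [← sx v hv, a.2, s0 v hv]
  have e12 : cnt (D.K 1) = cnt (D.K 2) := le_antisymm
    (sw 1 2 (27, 32, [0, 2, 1, 3]) (by decide) rfl n1 rfl) (sw 2 1 (27, 32, [0, 2, 1, 3]) (by decide) rfl n2 rfl)
  have e13 : cnt (D.K 1) = cnt (D.K 3) := le_antisymm
    (sw 1 3 (27, 31, [0, 3, 2, 1]) (by decide) rfl n1 rfl) (sw 3 1 (27, 31, [0, 3, 2, 1]) (by decide) rfl n3 rfl)
  have hW : Sub fun v => wp (D.L 0) v = v :=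
    ⟨h0.wp_zero, fun u v hu hv a b => by rw [h0.wp_add hu hv, a, b]⟩
  have dl : ∀ {x : ℕ}, x < 4 → ∀ v < 256, D.L 0 (D.Dq x v) = D.Dq x (D.L 0 v) := fun {x} hx v hv => by
    simp only [Sys.Dq]; rw [D.L_comm hx l0 hv]
  have winv : ∀ {x : ℕ}, x < 4 → ∀ v < 256, wp (D.L 0) v = v → wp (D.L 0) (D.Dq x v) = D.Dq x v := fun {x} hx v hv a => by
    rw [← h0.wp_comm (dq_ord hx) (fun w hw => (dl hx w hw).symm) hv, a]
  have split1 := cnt_split hW (dq_ord (D := D) n1) (winv n1)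
  have k1 : cnt (fun v => wp (D.L 0) v = v ∧ D.Dq 1 v = v) = cnt (D.K 1) :=
    cnt_congr fun v hv => and_congr_right fun _ => dq_fix n1 hv
  have hW1 : Sub fun v => wp (D.L 0) v = v ∧ wp (D.Dq 1) v = v :=
    ⟨⟨h0.wp_zero, (dq_ord n1).wp_zero⟩, fun u v hu hv a b =>
      ⟨by rw [h0.wp_add hu hv, a.1, b.1], by rw [(dq_ord n1).wp_add hu hv, a.2, b.2]⟩⟩
  have cdd : ∀ w < 256, D.Dq 2 (D.Dq 1 w) = D.Dq 1 (D.Dq 2 w) := fun w hw => by
    have a1 := (D.hL n1).lt w hw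
    have a2 := (D.hL n2).lt w hw
    simp only [Sys.Dq]
    rw [← D.L_comm l0 n2 (h0.lt _ a1), ← D.L_comm l0 n2 a1, ← D.L_comm l0 n1 (h0.lt _ a2), ← D.L_comm l0 n1 a2,
      D.L_comm n1 n2 hw]
  have split2 := cnt_split hW1 (dq_ord (D := D) n2) fun v hv a =>
    ⟨winv n2 v hv a.1, by rw [← (dq_ord n1).wp_comm (dq_ord n2) cdd hv, a.2]⟩
  have k2 : cnt (fun v => (wp (D.L 0) v = v ∧ wp (D.Dq 1) v = v) ∧ D.Dq 2 v = v) = cnt (D.K 2) :=
    cnt_congr fun v hv => ⟨fun a => ⟨a.1.1, (dq_fix n2 hv).mp a.2⟩, fun a =>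
      ⟨⟨a.1, P.K_moved n2 n1 (by norm_num) (by norm_num) (by norm_num) hv a⟩, (dq_fix n2 hv).mpr a.2⟩⟩
  have k3 : cnt (fun v => (wp (D.L 0) v = v ∧ wp (D.Dq 1) v = v) ∧ wp (D.Dq 2) v = v) = cnt (D.K 3) := by
    refine cnt_congr fun v hv => ⟨fun a => ⟨a.1.1, ?_⟩, fun a =>
      ⟨⟨a.1, P.K_moved n3 n1 (by norm_num) (by norm_num) (by norm_num) hv a⟩,
        P.K_moved n3 n2 (by norm_num) (by norm_num) (by norm_num) hv a⟩⟩
    -- on this part the other two maps are the inverse of the first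
    have inv : ∀ {x : ℕ}, x < 4 → wp (D.Dq x) v = v → D.L x v = D.L 0 (D.L 0 v) := by
      intro x hx hwx
      have hX := D.hL hx
      have hD := dq_ord (D := D) hx
      have hmx := P.moved_eq hx hv a.1.1
      have l1 := h0.lt v hv
      have lx := hX.lt v hv
      set w := D.L 0 (D.L x v) ^^^ v with hw
      have hwl : w < 256 := xlt (h0.lt _ lx) hv
      have c1 : D.Dq x (D.L 0 (D.L x v)) = D.L x (D.L x v) := by
        simp only [Sys.Dq]
        rw [D.L_comm hx l0 lx, h0.cube _ (hX.lt _ lx)]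
      have fw : D.Dq x w = w := by
        refine xzero ?_
        rw [hw, hD.add _ _ (h0.lt _ lx) hv, c1]
        simp only [Sys.Dq]
        have e1 : D.L 0 (D.L 0 (D.L x v)) ^^^ D.L 0 (D.L x v) = D.L x v := by
          have h := h0.wp_comm hX (fun w hw => D.L_comm hx l0 hw) hv
          rw [a.1.1] at h
          conv_rhs => rw [h]
          simp only [wp]
          ac_rfl
        have s := (hX.wp_iff hv).mp hmx
        calc D.L x (D.L x v) ^^^ D.L 0 (D.L 0 (D.L x v)) ^^^ (D.L 0 (D.L x v) ^^^ v)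
            = D.L x (D.L x v) ^^^ (D.L 0 (D.L 0 (D.L x v)) ^^^ D.L 0 (D.L x v)) ^^^ v := by ac_rfl
          _ = v ^^^ D.L x v ^^^ D.L x (D.L x v) := by rw [e1]; ac_rfl
          _ = 0 := s
      have ww : wp (D.Dq x) w = w := by
        rw [hw, hD.wp_add (h0.lt _ lx) hv, hwx,
          ← hD.wp_comm h0 (dl hx) lx, ← hD.wp_comm hX (fun u hu => by
            simp only [Sys.Dq]
            rw [D.L_comm hx l0 (h0.lt _ (hX.lt u hu)), D.L_comm hx l0 (hX.lt u hu)]) hv, hwx]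
      have e := hD.wp_fixed fw
      rw [ww, hw] at e
      have e' := xzero e
      conv_rhs => rw [← e']
      rw [h0.cube _ lx]
    have i1 := inv n1 a.1.2
    have i2 := inv n2 a.2
    have e := D.prod hv
    have l1 := h0.lt v hv
    have x3 := (D.hL n3).lt v hv
    rw [D.L_comm n2 n3 hv, i2, D.L_comm n3 l0 l1, D.L_comm n3 l0 hv, D.L_comm n1 l0 (h0.lt _ x3),
      D.L_comm n1 l0 x3, h0.cube _ ((D.hL n1).lt _ x3), D.L_comm n1 n3 hv, i1, D.L_comm n3 l0 l1,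
      D.L_comm n3 l0 hv] at e
    conv_rhs => rw [← e]
    rw [h0.cube _ x3]
  rw [k1, split2, k2, k3, ← e12, ← e13] at split1
  have eW : cnt (fun v => wp (D.L 0) v = v) = D.N true true true true := by
    refine cnt_congr fun v hv => ⟨fun a i hi _ => ?_, fun c => ?_⟩
    · have e : ([true, true, true, true] : List Bool).getD i false = true := by interval_cases i <;> rfl
      rw [e]; simpa [cond] using P.moved_eq hi hv a
    · have := c 0 (by norm_num) (by simp); simpa [cond] using this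
  have eU : cnt (fun v => D.L 0 v = v) = D.N false false false false := by
    refine cnt_congr fun v hv => ⟨fun a i hi _ => ?_, fun c => ?_⟩
    · have e : ([false, false, false, false] : List Bool).getD i false = false := by interval_cases i <;> rfl
      rw [e]; simpa [cond] using P.fix_eq l0 hi hv a
    · have := c 0 (by norm_num) (by simp); simpa [cond] using this
  have hn := four_le (K_sub (D := D) 1 n1) h0 (K_inv n1) (fun v _ a => a.1)
  have tot := P.prod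
  rw [← eW, ← eU, split1] at tot
  have h1 : cnt (D.K 1) ≠ 1 := by
    intro e
    rw [e] at split1
    obtain ⟨v, hv, hmv⟩ := D.moved
    refine hmv (h0.fix_of_wp hv ?_)
    exact cnt_one hW (by simpa using split1) (h0.wp_lt hv) (h0.wp_idem hv)
  have h4 := hn h1
  have hu : 1 ≤ cnt (fun v => D.L 0 v = v) := cnt_pos ⟨h0.zero, fun u v a b c d => by rw [h0.add u v a b, c, d]⟩
  generalize cnt (D.K 1) = n at *
  generalize cnt (fun v => D.L 0 v = v) = u at *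
  have hb : n ≤ 6 := by
    by_contra hb
    have : 1 * (7 * (7 * 7)) ≤ u * (n * (n * n)) :=
      Nat.mul_le_mul hu (Nat.mul_le_mul (by omega) (Nat.mul_le_mul (by omega) (by omega)))
    omega
  interval_cases n <;> omega

end SixTwo

end CfsgLib.U42Act
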