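/-
Coordinates in the case of a fixed plane: three moved planes and the fixed plane, pairwise orthogonal.
-/
import Cfsg.Agent.Lib.U42Act.SixTwo

set_option autoImplicit false
set_option maxRecDepth 100000
set_option maxHeartbeats 2000000
set_option linter.unusedVariables false

namespace CfsgLib.U42Act

namespace SixTwo

variable {D : Sys} (P : SixTwo D)
include P

omit P in
theorem dq_inv {q : ℕ → ℕ} (hq : Form D q) {x : ℕ} (hx : x < 4) {v : ℕ} (hv : v < 256) :
    q (D.Dq x v) = q v := by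
  have n0 := Sys.L_mem (show 0 < 4 by norm_num)
  have nx := Sys.L_mem hx
  simp only [Sys.Dq]
  exact ((hq.inv _ n0.2 _ ((D.hL l0).lt _ ((D.hL hx).lt v hv))).trans
    (hq.inv _ n0.2 _ ((D.hL hx).lt v hv))).trans (hq.inv _ nx.2 v hv)

omit P in
/-- A vector fixed by an isometry is orthogonal to the moved part. -/
theorem perp_moved {q : ℕ → ℕ} (hq : Form D q) {T : ℕ → ℕ} (hT : Ord3 T) (hi : ∀ w < 256, q (T w) = q w)
    {u v : ℕ} (hu : u < 256) (hv : v < 256) (a : T u = u) (b : wp T v = v) : bq q v u = 0 := by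
  have inv : ∀ w < 256, bq q (T w) u = bq q w u := by
    intro w hw
    conv_lhs => rw [← a]
    simp only [bq]
    rw [← hT.add w u hw hu, hi _ (xlt hw hu), hi w hw, hi u hu]
  conv_lhs => rw [← b]
  rw [wp, hq.add _ _ _ (hT.lt v hv) (hT.lt _ (hT.lt v hv)) hu, inv _ (hT.lt v hv), inv v hv, Nat.xor_self]

omit P in
theorem bq_comm (q : ℕ → ℕ) (x y : ℕ) : bq q x y = bq q y x := by
  simp only [bq, Nat.xor_comm x y]; ac_rfl

/-- Coordinates. -/
theorem coords {q : ℕ → ℕ} (hq : Form D q) : ∃ ψ : ℕ → ℕ, ∃ e < 2, (∀ v < 256, ψ v < 256) ∧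
    (∀ u v, u < 256 → v < 256 → ψ (u ^^^ v) = ψ u ^^^ ψ v) ∧
    (∀ w < 256, ∃ v < 256, ψ v = w) ∧ (∀ u v, u < 256 → v < 256 → ψ u = ψ v → u = v) ∧
    (∀ v < 256, q (ψ v) = qW e v) ∧ ∀ v < 256, D.L 0 (ψ v) = ψ v ↔ v &&& 63 = 0 := by
  classical
  have h0 := D.hL (show 0 < 4 by norm_num)
  obtain ⟨c1, c2, c3, cU⟩ := P.sizes
  have hUs : Sub fun v => D.L 0 v = v := ⟨h0.zero, fun u v hu hv a b => by rw [h0.add u v hu hv, a, b]⟩
  have kc : ∀ i < 3, cnt (D.K (i + 1)) = 4 := fun i hi => by interval_cases i <;> assumption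
  have kx : ∀ i < 3, ∃ x < 256, D.K (i + 1) x ∧ x ≠ 0 := by
    intro i hi
    by_contra h
    push Not at h
    have e := cnt_eq_one (K_sub (D := D) (i + 1) (by omega)) fun v hv fv => h v hv fv
    rw [kc i hi] at e
    norm_num at e
  choose! x hx kxx x0 using kx
  let y : ℕ → ℕ := fun i => D.L 0 (x i)
  have hy : ∀ i < 3, y i < 256 ∧ D.K (i + 1) (y i) := fun i hi =>
    ⟨h0.lt _ (hx i hi), K_inv (by omega) _ (hx i hi) (kxx i hi)⟩
  -- the fixed plane
  obtain ⟨a, ha, fa, a0⟩ : ∃ a < 256, D.L 0 a = a ∧ a ≠ 0 := by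
    by_contra h
    push Not at h
    have e := cnt_eq_one hUs fun v hv fv => h v hv fv
    rw [cU] at e
    norm_num at e
  have Uperp : ∀ u w, u < 256 → w < 256 → D.L 0 u = u → wp (D.L 0) w = w → bq q u w = 0 := fun u w hu hw a b => by
    rw [bq_comm]
    exact perp_moved hq h0 (fun v hv => hq.inv _ (Sys.L_mem (show 0 < 4 by norm_num)).2 v hv) hu hw a b
  obtain ⟨b, hb, fb, eab⟩ : ∃ b < 256, D.L 0 b = b ∧ bq q a b = 1 := by
    obtain ⟨v, hv, e⟩ := hq.nd a ha a0
    refine ⟨fp (D.L 0) v, h0.fp_lt hv, h0.fp_fix hv, ?_⟩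
    have hw := h0.wp_lt hv
    have ev : fp (D.L 0) v ^^^ wp (D.L 0) v = v := by rw [fp, Nat.xor_assoc, Nat.xor_self, Nat.xor_zero]
    rw [← ev, bq_comm, hq.add _ _ _ (h0.fp_lt hv) hw ha, bq_comm q (wp _ v) a,
      Uperp a _ ha hw fa (h0.wp_idem hv), Nat.xor_zero, bq_comm] at e
    exact e
  -- choose the basis of the fixed plane
  obtain ⟨u1, u2, hu1, hu2, f1, f2, e12, e, he, hqu⟩ : ∃ u1 u2, u1 < 256 ∧ u2 < 256 ∧ D.L 0 u1 = u1 ∧
      D.L 0 u2 = u2 ∧ bq q u1 u2 = 1 ∧ ∃ e < 2, ∀ c < 4, q ([0, u1, u2, u1 ^^^ u2].getD c 0) =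
        bif Nat.beq e 1 then nz c else bif Nat.beq c 3 then 1 else 0 := by
    have l1 := hq.lt a ha
    have l2 := hq.lt b hb
    have l3 := hq.lt _ (xlt ha hb)
    have fab : D.L 0 (a ^^^ b) = a ^^^ b := by rw [h0.add a b ha hb, fa, fb]
    have s : q (a ^^^ b) ^^^ q a ^^^ q b = 1 := eab
    have s1 : a ^^^ (a ^^^ b) = b := xcancel a b
    have s2 : b ^^^ (a ^^^ b) = a := by rw [Nat.xor_comm a b, xcancel]
    rcases (show q a = 0 ∨ q a = 1 by omega) with qa | qa <;> rcases (show q b = 0 ∨ q b = 1 by omega) with qb | qb <;>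
      rcases (show q (a ^^^ b) = 0 ∨ q (a ^^^ b) = 1 by omega) with qc | qc <;> rw [qa, qb, qc] at s
    · exact absurd s (by decide)
    · exact ⟨a, b, ha, hb, fa, fb, eab, 0, by norm_num, fun c hc => by
        interval_cases c <;> simp [hq.zero, qa, qb, qc, nz, s1, s2] <;> rfl⟩
    · exact ⟨a, a ^^^ b, ha, xlt ha hb, fa, fab, by simp [bq, s1, qa, qb, qc], 0, by norm_num, fun c hc => by
        interval_cases c <;> simp [hq.zero, qa, qb, qc, nz, s1, s2] <;> rfl⟩
    · exact absurd s (by decide)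
    · exact ⟨b, a ^^^ b, hb, xlt ha hb, fb, fab, by simp [bq, s2, qa, qb, qc], 0, by norm_num, fun c hc => by
        interval_cases c <;> simp [hq.zero, qa, qb, qc, nz, s1, s2] <;> rfl⟩
    · exact absurd s (by decide)
    · exact absurd s (by decide)
    · exact ⟨a, b, ha, hb, fa, fb, eab, 1, by norm_num, fun c hc => by
        interval_cases c <;> simp [hq.zero, qa, qb, qc, nz, s1, s2] <;> rfl⟩
  let X : ℕ → ℕ := fun i => if i < 3 then x i else u1
  let Y : ℕ → ℕ := fun i => if i < 3 then y i else u2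
  let pc : ℕ → ℕ → ℕ := fun i c => [0, X i, Y i, X i ^^^ Y i].getD c 0
  let part : ℕ → ℕ → ℕ := fun v i => pc i (U6Rec.co v i)
  have pl : ∀ i < 4, ∀ c < 4, pc i c < 256 := by
    intro i hi c hc
    have hX : X i < 256 ∧ Y i < 256 := by
      simp only [X, Y]
      split
      exacts [⟨hx i ‹_›, (hy i ‹_›).1⟩, ⟨hu1, hu2⟩]
    interval_cases c
    exacts [by norm_num [pc], hX.1, hX.2, xlt hX.1 hX.2]
  have pK : ∀ i < 3, ∀ c < 4, D.K (i + 1) (pc i c) := by
    intro i hi c hc
    interval_cases c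
    · exact (K_sub (i + 1) (by omega)).zero
    · simpa [pc, X, hi] using kxx i hi
    · simpa [pc, Y, hi] using (hy i hi).2
    · simpa [pc, X, Y, hi] using (K_sub (i + 1) (by omega)).add _ _ (hx i hi) (hy i hi).1 (kxx i hi) (hy i hi).2
  have pU : ∀ c < 4, D.L 0 (pc 3 c) = pc 3 c := by
    intro c hc
    interval_cases c <;> simp [pc, X, Y, h0.zero, f1, f2, h0.add _ _ hu1 hu2]
  have orbit : ∀ i < 3, ∀ w < 256, D.K (i + 1) w → w = 0 ∨ w = x i ∨ w = y i ∨ w = x i ^^^ y i := by
    intro i hi w hw kw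
    have s := (h0.wp_iff (hx i hi)).mp (kxx i hi).1
    rw [xzero s]
    exact four_orbit (K_sub (i + 1) (by omega)) h0 (K_inv (by omega)) (fun v _ k => k.1) (kc i hi) (hx i hi)
      (kxx i hi) (x0 i hi) hw kw
  have o3 : ∀ i < 3, ∀ u < 256, D.L 0 u = u → ∀ c < 4, bq q u (pc i c) = 0 := fun i hi u hu f c hc =>
    Uperp u _ hu (pl i (by omega) c hc) f (pK i hi c hc).1
  have o2 : ∀ i < 3, ∀ j < 3, i ≠ j → ∀ c < 4, ∀ d < 4, bq q (pc i c) (pc j d) = 0 := by
    intro i hi j hj ij c hc d hd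
    rw [bq_comm]
    have lc := pl i (by omega) c hc
    exact perp_moved hq (dq_ord (show i + 1 < 4 by omega)) (fun w hw => dq_inv hq (by omega) hw) lc
      (pl j (by omega) d hd) ((dq_fix (by omega) lc).mpr (pK i hi c hc).2)
      (P.K_moved (by omega) (by omega) (by omega) (by omega) (by omega) (pl j (by omega) d hd) (pK j hj d hd))
  have operp : ∀ i j, i < 4 → j < 4 → i ≠ j → ∀ c < 4, ∀ d < 4, bq q (pc i c) (pc j d) = 0 := by
    intro i j hi hj ij c hc d hd
    by_cases i3 : i < 3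
    · by_cases j3 : j < 3
      · exact o2 i i3 j j3 ij c hc d hd
      · obtain rfl : j = 3 := by omega
        rw [bq_comm]
        exact o3 i i3 _ (pl 3 hj d hd) (pU d hd) c hc
    · obtain rfl : i = 3 := by omega
      exact o3 j (by omega) _ (pl 3 hi c hc) (pU c hc) d hd
  let ψ : ℕ → ℕ := fun v => x4 (part v)
  have lp : ∀ v i, i < 4 → part v i < 256 := fun v i hi => pl i hi _ (U6Rec.co_lt _ _)
  have ψlt : ∀ v < 256, ψ v < 256 := fun v _ =>
    xlt (xlt (xlt (lp v 0 (by norm_num)) (lp v 1 (by norm_num))) (lp v 2 (by norm_num))) (lp v 3 (by norm_num))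
  have ψadd : ∀ u v, u < 256 → v < 256 → ψ (u ^^^ v) = ψ u ^^^ ψ v := by
    intro u v _ _
    simp only [ψ, x4, part, pc, U6Rec.co_add, piece_xor _ _ (U6Rec.co_lt u _) (U6Rec.co_lt v _)]
    ac_rfl
  have bx : ∀ v i, i < 4 → ∀ c < 4, bq q (ψ v) (pc i c) = bq q (part v i) (pc i c) := by
    intro v i hi c hc
    have h := fun j (hj : j < 4) (ne : j ≠ i) => operp j i hj hi ne _ (U6Rec.co_lt v j) c hc
    have a1 := lp v 0 (by norm_num); have a2 := lp v 1 (by norm_num); have a3 := lp v 2 (by norm_num)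
    have a4 := lp v 3 (by norm_num)
    have hl := pl i hi c hc
    simp only [ψ, x4]
    rw [hq.add _ _ _ (xlt (xlt a1 a2) a3) a4 hl, hq.add _ _ _ (xlt a1 a2) a3 hl, hq.add _ _ _ a1 a2 hl]
    simp only [part] at h ⊢
    interval_cases i <;>
      simp [h 0 (by norm_num), h 1 (by norm_num), h 2 (by norm_num), h 3 (by norm_num)]
  -- the form on a moved plane
  have one : ∀ i < 3, ∀ w < 256, D.K (i + 1) w → w ≠ 0 → q w = 1 ∧ ∀ z < 256, D.K (i + 1) z → z ≠ 0 → z ≠ w → bq q w z = 1 := by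
    intro i hi w hw kw w0
    have n0 := (Sys.L_mem (show 0 < 4 by norm_num)).2
    have qx : q (y i) = q (x i) := hq.inv _ n0 _ (hx i hi)
    have qz : q (x i ^^^ y i) = q (x i) := by
      rw [xzero ((h0.wp_iff (hx i hi)).mp (kxx i hi).1)]
      exact (hq.inv _ n0 _ (hy i hi).1).trans qx
    have all : ∀ z < 256, D.K (i + 1) z → z ≠ 0 → q z = q (x i) := by
      intro z hz kz z0
      rcases orbit i hi z hz kz with r | r | r | r
      · exact absurd r z0
      · rw [r]
      · rw [r, qx]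
      · rw [r, qz]
    have h1 : q (x i) = 1 := by
      by_contra h1
      have hz : q (x i) = 0 := by have := hq.lt _ (hx i hi); omega
      obtain ⟨v, hv, ev⟩ := hq.nd _ (hx i hi) (x0 i hi)
      -- every vector decomposes
      have dec : ∀ v < 256, bq q (x i) v = 0 := by
        intro v hv
        have flat : ∀ z < 256, D.K (i + 1) z → bq q (x i) z = 0 := by
          intro z hz' kz
          have e : ∀ z < 256, D.K (i + 1) z → q z = 0 := fun z hz' kz => by
            by_cases z0 : z = 0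
            · rw [z0, hq.zero]
            · rw [all z hz' kz z0, hz]
          simp [bq, e z hz' kz, hz, e _ (xlt (hx i hi) hz') ((K_sub (i + 1) (by omega)).add _ _ (hx i hi) hz' (kxx i hi) kz)]
        have hfx : fp (D.L 0) v < 256 := h0.fp_lt hv
        have hwx := h0.wp_lt hv
        have ev : fp (D.L 0) v ^^^ wp (D.L 0) v = v := by rw [fp, Nat.xor_assoc, Nat.xor_self, Nat.xor_zero]
        have hD := dq_ord (D := D) (show i + 1 < 4 by omega)
        set w := wp (D.L 0) v with hw'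
        have hp := hD.wp_lt hwx
        have hf := hD.fp_lt hwx
        have ew : fp (D.Dq (i + 1)) w ^^^ wp (D.Dq (i + 1)) w = w := by rw [fp, Nat.xor_assoc, Nat.xor_self, Nat.xor_zero]
        have kf : D.K (i + 1) (fp (D.Dq (i + 1)) w) := by
          refine ⟨?_, (dq_fix (by omega) hf).mp (hD.fp_fix hwx)⟩
          have dl : ∀ u < 256, D.Dq (i + 1) (D.L 0 u) = D.L 0 (D.Dq (i + 1) u) := fun u hu => by
            simp only [Sys.Dq]; rw [D.L_comm (show i + 1 < 4 by omega) (show 0 < 4 by norm_num) hu]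
          have := h0.wp_idem hv
          have e1 := h0.wp_comm hD dl hwx
          rw [this] at e1
          have l1 := hD.lt w hwx
          have e2 := h0.wp_comm hD dl l1
          rw [← e1] at e2
          have e3 : wp (D.L 0) (wp (D.Dq (i + 1)) w) = wp (D.Dq (i + 1)) w := by
            show wp (D.L 0) (D.Dq (i + 1) w ^^^ D.Dq (i + 1) (D.Dq (i + 1) w)) = _
            rw [h0.wp_add l1 (hD.lt _ l1), ← e1, ← e2]; rfl
          show wp (D.L 0) (w ^^^ wp (D.Dq (i + 1)) w) = _
          rw [h0.wp_add hwx hp, this, e3]; rfl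
        have t1 : bq q (x i) (wp (D.Dq (i + 1)) w) = 0 := by
          rw [bq_comm]
          exact perp_moved hq hD (fun u hu => dq_inv hq (by omega) hu) (hx i hi) hp
            ((dq_fix (by omega) (hx i hi)).mpr (kxx i hi).2) (hD.wp_idem hwx)
        have t2 : bq q (x i) (fp (D.L 0) v) = 0 := by
          rw [bq_comm]; exact Uperp _ _ hfx (hx i hi) (h0.fp_fix hv) (kxx i hi).1
        rw [bq_comm] at t1 t2 ⊢
        rw [← ev, hq.add _ _ _ hfx hwx (hx i hi), t2, ← ew, hq.add _ _ _ hf hp (hx i hi), t1, bq_comm q _ (x i),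
          flat _ hf kf]
        rfl
      rw [dec v hv] at ev
      norm_num at ev
    refine ⟨(all w hw kw w0).trans h1, fun z hz kz z0 zw => ?_⟩
    have s := (K_sub (i + 1) (by omega)).add _ _ hw hz kw kz
    have ne : w ^^^ z ≠ 0 := fun e => zw (xzero e).symm
    simp [bq, all w hw kw w0, all z hz kz z0, all _ (xlt hw hz) s ne, h1]
  have pne : ∀ i < 3, ∀ c < 4, c ≠ 0 → pc i c ≠ 0 := by
    intro i hi c hc c0 e
    have y0 : y i ≠ 0 := fun e => x0 i hi (h0.inj (hx i hi) (by norm_num) (e.trans h0.zero.symm))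
    interval_cases c
    · exact c0 rfl
    · exact x0 i hi (by simpa [pc, X, hi] using e)
    · exact y0 (by simpa [pc, Y, hi] using e)
    · exact h0.moved (hx i hi) (kxx i hi).1 (x0 i hi) (xzero (by simpa [pc, X, Y, hi] using e)).symm
  have witness : ∀ i < 4, ∀ c < 4, c ≠ 0 → ∃ d < 4, bq q (pc i c) (pc i d) = 1 := by
    intro i hi c hc c0
    by_cases i3 : i < 3
    · refine ⟨if c = 1 then 2 else 1, by split <;> norm_num, ?_⟩
      have hd : ∀ d < 4, d ≠ 0 → d ≠ c → bq q (pc i c) (pc i d) = 1 := fun d hd d0 dc => by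
        refine (one i i3 _ (pl i hi c hc) (pK i i3 c hc) (pne i i3 c hc c0)).2 _ (pl i hi d hd) (pK i i3 d hd)
          (pne i i3 d hd d0) fun e => ?_
        have := pne i i3 (d ^^^ c) (Nat.xor_lt_two_pow (n := 2) hd hc) (fun e0 => dc (xzero e0))
        simp only [pc, piece_xor _ _ hd hc] at this
        exact this (by simp only [pc] at e; rw [e, Nat.xor_self])
      split <;> exact hd _ (by norm_num) (by norm_num) (by omega)
    · obtain rfl : i = 3 := by omega
      have s1 : u1 ^^^ (u1 ^^^ u2) = u2 := xcancel u1 u2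
      have hh : bq q (u1 ^^^ u2) u1 = 1 := by
        rw [hq.add _ _ _ hu1 hu2 hu1, bq_comm q u2 u1, e12]
        simp [bq, hq.zero]
      interval_cases c
      · exact absurd rfl c0
      · exact ⟨2, by norm_num, by simpa [pc, X, Y] using e12⟩
      · exact ⟨1, by norm_num, by rw [bq_comm]; simpa [pc, X, Y] using e12⟩
      · exact ⟨1, by norm_num, by simpa [pc, X, Y] using hh⟩
  have coz : ∀ v < 256, ψ v = 0 → ∀ i < 4, U6Rec.co v i = 0 := by
    intro v hv ev i hi
    by_contra c0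
    obtain ⟨d, hd, ed⟩ := witness i hi _ (U6Rec.co_lt v i) c0
    have := bx v i hi d hd
    simp only [part] at this
    rw [ed, ev] at this
    simp [bq, hq.zero] at this
  have ψinj : ∀ u v, u < 256 → v < 256 → ψ u = ψ v → u = v := fun u v hu hv e' => by
    have h := coz _ (xlt hu hv) (by rw [ψadd u v hu hv, e', Nat.xor_self])
    exact xzero ((co_split _ (xlt hu hv)).2.mpr
      ⟨h 0 (by norm_num), h 1 (by norm_num), h 2 (by norm_num), h 3 (by norm_num)⟩)
  have ψsurj : ∀ w < 256, ∃ v < 256, ψ v = w := by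
    intro w hw
    have hi : Function.Injective (fun v : Fin 256 => (⟨ψ v, ψlt v v.2⟩ : Fin 256)) := fun a b e' =>
      Fin.ext (ψinj a b a.2 b.2 (congrArg Fin.val e'))
    obtain ⟨v, hv⟩ := (Finite.injective_iff_surjective.mp hi) ⟨w, hw⟩
    exact ⟨v, v.2, congrArg Fin.val hv⟩
  refine ⟨ψ, e, he, ψlt, ψadd, ψsurj, ψinj, fun v hv => ?_, fun v hv => ?_⟩
  · have qadd : ∀ a b, a < 256 → b < 256 → bq q a b = 0 → q (a ^^^ b) = q a ^^^ q b := fun a b _ _ e => by
      rw [bq, Nat.xor_assoc] at e; exact xzero e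
    have qp : ∀ i < 3, q (part v i) = nz (U6Rec.co v i) := by
      intro i hi
      have hc := U6Rec.co_lt v i
      simp only [part]
      generalize U6Rec.co v i = c at hc
      by_cases c0 : c = 0
      · subst c0; simp [pc, nz, hq.zero]
      · rw [(one i hi _ (pl i (by omega) c hc) (pK i hi c hc) (pne i hi c hc c0)).1, nz,
          show Nat.beq c 0 = false from Bool.eq_false_iff.mpr fun t => c0 (Nat.eq_of_beq_eq_true t)]
        rfl
    have q3 : q (part v 3) = bif Nat.beq e 1 then nz (U6Rec.co v 3) else bif Nat.beq (U6Rec.co v 3) 3 then 1 else 0 := by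
      simpa [part, pc, X, Y] using hqu _ (U6Rec.co_lt v 3)
    have a1 := lp v 0 (by norm_num); have a2 := lp v 1 (by norm_num); have a3 := lp v 2 (by norm_num)
    have a4 := lp v 3 (by norm_num)
    have o := fun i j hi hj ij => operp i j hi hj ij _ (U6Rec.co_lt v i) _ (U6Rec.co_lt v j)
    show q (x4 (part v)) = _
    simp only [x4]
    rw [qadd _ _ (xlt (xlt a1 a2) a3) a4 (by
        rw [hq.add _ _ _ (xlt a1 a2) a3 a4, hq.add _ _ _ a1 a2 a4]
        simp [part, o 0 3 (by norm_num) (by norm_num) (by norm_num), o 1 3 (by norm_num) (by norm_num) (by norm_num),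
          o 2 3 (by norm_num) (by norm_num) (by norm_num)]),
      qadd _ _ (xlt a1 a2) a3 (by
        rw [hq.add _ _ _ a1 a2 a3]
        simp [part, o 0 2 (by norm_num) (by norm_num) (by norm_num), o 1 2 (by norm_num) (by norm_num) (by norm_num)]),
      qadd _ _ a1 a2 (o 0 1 (by norm_num) (by norm_num) (by norm_num)),
      qp 0 (by norm_num), qp 1 (by norm_num), qp 2 (by norm_num), q3]
    rfl
  · constructor
    · intro f
      have hz : ∀ i < 3, U6Rec.co v i = 0 := fun i hi => by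
        by_contra c0
        obtain ⟨d, hd, ed⟩ := witness i (by omega) _ (U6Rec.co_lt v i) c0
        have h := bx v i (by omega) d hd
        simp only [part] at h
        rw [ed, o3 i hi _ (ψlt v hv) f d hd] at h
        norm_num at h
      exact (co_split v hv).1.mpr ⟨hz 0 (by norm_num), hz 1 (by norm_num), hz 2 (by norm_num)⟩
    · intro h
      obtain ⟨z0, z1, z2⟩ := (co_split v hv).1.mp h
      have : ψ v = pc 3 (U6Rec.co v 3) := by simp [ψ, x4, part, z0, z1, z2, pc]
      rw [this]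
      exact pU _ (U6Rec.co_lt _ _)

end SixTwo

end CfsgLib.U42Act
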