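/-
An eight-bit space with a faithful isometric action of the projective symplectic group in dimension four over
three elements: the natural unitary space, or three planes with a fixed plane.
-/
import Cfsg.Agent.Lib.U42Act.Base
import Cfsg.Agent.Lib.U42Act.Coord
import Cfsg.Agent.Lib.U42Act.SixCoord
import Cfsg.Agent.S0270
import Cfsg.Agent.S0245

set_option autoImplicit false
set_option maxRecDepth 100000
set_option linter.unusedVariables false

namespace CfsgLib.U42Act

open U6Rec
open scoped commutatorElement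

/-- A faithful action by additive isometries. -/
structure Action (X : Type*) [Group X] where
  act : X → ℕ → ℕ
  q : ℕ → ℕ
  lt : ∀ x, ∀ v < 256, act x v < 256
  add : ∀ x u v, u < 256 → v < 256 → act x (u ^^^ v) = act x u ^^^ act x v
  mul : ∀ x y, ∀ v < 256, act (x * y) v = act x (act y v)
  one : ∀ v < 256, act 1 v = v
  faithful : ∀ x, (∀ v < 256, act x v = v) → x = 1
  q_lt : ∀ v < 256, q v < 2
  q_zero : q 0 = 0
  q_inv : ∀ x, ∀ v < 256, q (act x v) = q v
  q_add : ∀ u v w, u < 256 → v < 256 → w < 256 → bq q (u ^^^ v) w = bq q u w ^^^ bq q v w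
  q_nd : ∀ u < 256, u ≠ 0 → ∃ v < 256, bq q u v = 1

/-- A change of coordinates. -/
structure Chart (ψ : ℕ → ℕ) : Prop where
  lt : ∀ v < 256, ψ v < 256
  add : ∀ u v, u < 256 → v < 256 → ψ (u ^^^ v) = ψ u ^^^ ψ v
  surj : ∀ w < 256, ∃ v < 256, ψ v = w
  inj : ∀ u v, u < 256 → v < 256 → ψ u = ψ v → u = v

/-- The natural coordinates. -/
def Natural {X : Type*} [Group X] (A : Action X) : Prop :=
  ∃ (ψ : ℕ → ℕ) (r : X → ℕ), Chart ψ ∧ (∀ v < 256, A.q (ψ v) = qf v) ∧ (∀ x, InU (r x)) ∧
    (∀ g, InU g → ∃ x, r x = g) ∧ ∀ x, ∀ v < 256, A.act x (ψ v) = ψ (app (r x) v)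

/-- The coordinates with a fixed plane. -/
def Fixed {X : Type*} [Group X] (A : Action X) : Prop :=
  ∃ (ψ : ℕ → ℕ) (e : ℕ), e < 2 ∧ Chart ψ ∧ (∀ v < 256, A.q (ψ v) = qW e v) ∧
    (∀ x, ∀ v < 256, v &&& 63 = 0 → A.act x (ψ v) = ψ v) ∧
    ∀ x, ∀ v < 64, ∃ w < 64, A.act x (ψ v) = ψ w

theorem card_psp {F : Type*} [Field F] [Fintype F] (hF : Fintype.card F = 3) : Nat.card (Cfsg.PSp 2 F) = 25920 := by
  classical
  have h := Subgroup.card_eq_card_quotient_mul_card_subgroup (Subgroup.center (Matrix.symplecticGroup (Fin 2) F))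
  rw [Cfsg.Agent.S0245.result hF 2, SympTransvection.card_center (by norm_num), hF] at h
  have e : (3 : ℕ) ^ (2 ^ 2) * ∏ i ∈ Finset.range 2, (3 ^ (2 * (i + 1)) - 1) = 51840 := by decide +kernel
  rw [e, show Nat.gcd 2 (3 - 1) = 2 from rfl] at h
  change 51840 = Nat.card (Cfsg.PSp 2 F) * 2 at h
  omega

theorem psp_simple {F : Type*} [Field F] [Fintype F] (hF : Fintype.card F = 3) : IsSimpleGroup (Cfsg.PSp 2 F) :=
  Cfsg.Agent.S0270.result 2 le_rfl (fun _ => by omega)

theorem perp_low : ∀ e < 2, ∀ v < 256, v < 64 ↔ bq (qW e) v 64 = 0 ∧ bq (qW e) v 128 = 0 := by decide +kernel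

theorem high_bits : (64 : ℕ) &&& 63 = 0 ∧ (128 : ℕ) &&& 63 = 0 := by decide

/-- The action is natural or has a fixed plane. -/
theorem ident {X : Type*} [Group X] [Finite X] {F : Type*} [Field F] [Fintype F] (hF : Fintype.card F = 3)
    (e : X ≃* Cfsg.PSp 2 F) (A : Action X) : Natural A ∨ Fixed A := by
  classical
  obtain ⟨τ₀, G0⟩ := exists_gens hF
  let τ : ℕ → X := fun n => e.symm (τ₀ n)
  have inj := e.symm.injective
  haveI : IsSimpleGroup X := by
    haveI := psp_simple hF
    haveI : Nontrivial X := e.toEquiv.nontrivial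
    exact IsSimpleGroup.isSimpleGroup_of_surjective e.symm.toMonoidHom e.symm.surjective
  have gen : Subgroup.closure (τ '' Set.Iio 81) = ⊤ := by
    have : τ '' Set.Iio 81 = e.symm '' (τ₀ '' Set.Iio 81) := (Set.image_image _ _ _).symm
    rw [this, ← MulEquiv.coe_toMonoidHom, ← MonoidHom.map_closure, G0.gen,
      Subgroup.map_top_of_surjective _ e.symm.surjective]
  have comp2 : ∀ {a b : X}, Commute a b → ∀ v < 256, A.act a (A.act b v) = A.act b (A.act a v) := fun {a b} h v hv => by
    rw [← A.mul a b v hv, ← A.mul b a v hv, h.eq]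
  have tc : ∀ {a b : Cfsg.PSp 2 F}, Commute a b → Commute (e.symm a) (e.symm b) := fun h => h.map e.symm.toMonoidHom
  have cube : ∀ n < 81, τ n * (τ n * τ n) = 1 := fun n hn => by
    simp only [τ]; rw [← map_mul, ← map_mul, G0.cube n hn, map_one]
  have moved : ∃ v < 256, A.act (τ 1) v ≠ v := by
    by_contra h
    push Not at h
    have := A.faithful _ h
    refine G0.nc ?_
    have h1 : τ₀ 1 = 1 := inj (this.trans (map_one e.symm).symm)
    rw [h1]
    exact Commute.one_left _
  let D : Sys :=
    { f := fun n v => A.act (τ n) v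
      ord := fun n hn => ⟨A.lt _, A.add _, fun v hv => by
        rw [← A.mul _ _ v hv, ← A.mul _ _ v hv, cube n hn, A.one v hv]⟩
      line := fun v hv => by
        have h : τ 1 * (τ 3 * (τ 4 * τ 5)) = 1 := by
          simp only [τ]; rw [← map_mul, ← map_mul, ← map_mul, G0.line, map_one]
        rw [← A.mul _ _ v hv, ← A.mul _ _ v hv, ← A.mul _ _ v hv, h, A.one v hv]
      comm := fun u hu w hw v hv => comp2 (tc (G0.comm u hu w hw)) v hv
      perp := fun n hn => by
        obtain ⟨x, hx, h⟩ := G0.perp n hn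
        exact ⟨x, hx, fun v hv => comp2 (tc h) v hv⟩
      swap := fun s hs i hi v hv => by
        have h : τ s.2.1 * τ s.1 * τ (lineP.getD i 0) = τ (lineP.getD (s.2.2.getD i 0) 0) * (τ s.2.1 * τ s.1) := by
          simp only [τ, ← map_mul]; rw [G0.swap s hs i hi]
        have := congrArg (fun g => A.act g v) h
        simp only [A.mul _ _ _ hv] at this
        rw [A.mul _ _ _ (A.lt _ v hv)] at this
        exact this
      moved := moved }
  have hq : Form D A.q := ⟨A.q_lt, A.q_zero, fun n _ v hv => A.q_inv _ v hv, A.q_add, A.q_nd⟩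
  have ncX : ¬ Commute (τ 1) (τ 9) := fun h => G0.nc (by
    have := h.map e.toMonoidHom
    simpa [τ] using this)
  rcases D.dichotomy with ⟨a, b, c, d⟩ | ⟨a, b, c⟩
  · left
    obtain ⟨ψ, hlt, hadd, hsurj, hinj, hqf, hg⟩ := (Planes.mk (D := D) a b c d).codes hq
    have cpf : ∀ {g h : ℕ}, comp h one = h → comp (comp g h) one = comp g h := fun {g h} e => by rw [comp_assoc, e]
    -- every element is an isometry commuting with the scalars
    have all : ∀ x : X, ∃ g, Unit4 g ∧ comp g one = g ∧ ∀ v < 256, ψ (app g v) = A.act x (ψ v) := by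
      intro x
      have hx : x ∈ Subgroup.closure (τ '' Set.Iio 81) := gen ▸ Subgroup.mem_top x
      rw [← Subgroup.mem_toSubmonoid, Subgroup.closure_toSubmonoid_of_finite] at hx
      induction hx using Submonoid.closure_induction_left with
      | one => exact ⟨one, inU_one.unit, one_one, fun v hv => by rw [app_one v hv, A.one _ (hlt v hv)]⟩
      | mul_left a ha y _ ih =>
        obtain ⟨n, hn, rfl⟩ := ha
        obtain ⟨g, u1, f1, r1⟩ := hg n hn
        obtain ⟨h, u2, f2, r2⟩ := ih
        refine ⟨comp g h, u1.comp u2, cpf f2, fun v hv => ?_⟩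
        rw [app_comp, r1 _ (app_lt _ _), r2 v hv, A.mul _ _ _ (hlt v hv)]
    choose g gu gf gr using all
    have gext : ∀ {a b : ℕ}, comp a one = a → comp b one = b → (∀ v < 256, app a v = app b v) → a = b := fun {a b} x y h => by
      rw [← x, ← y]; exact comp_ext fun v hv => by simp only [app_comp, app_one v hv]; exact h v hv
    have gmul : ∀ x y, g (x * y) = comp (g x) (g y) := fun x y => gext (gf _) (cpf (gf y)) fun v hv =>
      hinj _ _ (app_lt _ _) (app_lt _ _) (by
        rw [gr _ v hv, A.mul _ _ _ (hlt v hv), app_comp, gr _ _ (app_lt _ _), gr _ v hv])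
    have g1 : g 1 = one := gext (gf _) one_one fun v hv => hinj _ _ (app_lt _ _) (app_lt _ _) (by
      rw [gr _ v hv, A.one _ (hlt v hv), app_one v hv])
    have cl := fun x => unit_class (gu x) (gf x)
    have cs : ∀ {c : ℕ}, c < 4 → ∀ {u : ℕ}, Unit4 u → comp u (scl c) = comp (scl c) u := fun {c} hc {u} hu => comp_ext fun v hv => by
      rw [app_comp, app_comp, scl_app c hc v hv, hu.smul_app c v hc hv, scl_app c hc _ (app_lt _ _)]
    let S : Subgroup X :=
      { carrier := {x | InU (g x)}
        one_mem' := by show InU (g 1); rw [g1]; exact inU_one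
        mul_mem' := fun {a b} ha hb => by show InU (g (a * b)); rw [gmul]; exact inU_comp ha hb
        inv_mem' := fun {a} ha => by
          obtain ⟨h, hh, e⟩ := inU_inv ha
          show InU (g a⁻¹)
          have : g a⁻¹ = h := by
            have e2 : g a⁻¹ = comp (comp h (g a)) (g a⁻¹) := by rw [e, ← gf a⁻¹, one_comp]
            rw [e2, comp_assoc, ← gmul, mul_inv_cancel, g1, hh.form]
          rw [this]; exact hh }
    have hder : commutator X ≤ S := by
      rw [commutator_def, Subgroup.commutator_le]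
      intro x _ y _
      obtain ⟨c, hc, c0, u, hu, ex⟩ := cl x
      obtain ⟨c', hc', c0', u', hu', ey⟩ := cl y
      obtain ⟨ui, hui, eui⟩ := inU_inv hu
      obtain ⟨ui', hui', eui'⟩ := inU_inv hu'
      obtain ⟨k, hk, k0, ek⟩ := smul4_inv c hc c0
      obtain ⟨k', hk', k0', ek'⟩ := smul4_inv c' hc' c0'
      show InU (g ⁅x, y⁆)
      have key : g ⁅x, y⁆ = comp (comp u u') (comp ui ui') := by
        have inv : ∀ (x : X) {c u ui k : ℕ}, c < 4 → k < 4 → m4 k c = 1 → InU u → InU ui → comp ui u = one →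
            g x = comp (scl c) u → g x⁻¹ = comp (scl k) ui := by
          intro x c u ui k hc hk ek hu hui eu ex
          have e1 : comp (comp (scl k) ui) (g x) = one := by
            rw [ex, comp_assoc, ← comp_assoc ui, cs hc hui.unit, comp_assoc (scl c), eu, ← comp_assoc, scl_mul c hc k hk ek, one_one]
          calc g x⁻¹ = comp (comp (comp (scl k) ui) (g x)) (g x⁻¹) := by rw [e1, ← gf x⁻¹, one_comp]
            _ = comp (scl k) ui := by rw [comp_assoc, ← gmul, mul_inv_cancel, g1, cpf hui.form]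
        rw [commutatorElement_def, gmul, gmul, gmul, inv x hc hk ek hu hui eui ex, inv y hc' hk' ek' hu' hui' eui' ey, ex, ey]
        refine comp_ext fun v hv => ?_
        simp only [app_comp]
        rw [scl_app k' hk' _ (app_lt _ _), hui.unit.smul_app _ _ hk' (app_lt _ _), scl_app k hk _ (smul4_lt hk' _),
          hu'.unit.smul_app _ _ hk (smul4_lt hk' _), hu'.unit.smul_app _ _ hk' (app_lt _ _),
          scl_app c' hc' _ (smul4_lt hk _), hu.unit.smul_app _ _ hc' (smul4_lt hk _),
          hu.unit.smul_app _ _ hk (smul4_lt hk' _), hu.unit.smul_app _ _ hk' (app_lt _ _),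
          scl_app c hc _ (smul4_lt hc' _)]
        exact scl_four c hc c' hc' k hk k' hk' ek ek' _ (app_lt _ _)
      rw [key]
      exact inU_comp (inU_comp hu hu') (inU_comp hui hui')
    have top : commutator X = ⊤ := by
      rcases Subgroup.Normal.eq_bot_or_eq_top (inferInstance : (commutator X).Normal) with h | h
      · refine absurd ?_ ncX
        have : ⁅τ 1, τ 9⁆ ∈ commutator X := Subgroup.commutator_mem_commutator (Subgroup.mem_top _) (Subgroup.mem_top _)
        rw [h, Subgroup.mem_bot] at this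
        exact commutatorElement_eq_one_iff_mul_comm.mp this
      · exact h
    have inS : ∀ x, InU (g x) := fun x => hder (top ▸ Subgroup.mem_top x)
    refine ⟨ψ, g, ⟨hlt, hadd, hsurj, hinj⟩, hqf, inS, ?_, fun x v hv => (gr x v hv).symm⟩
    haveI : Finite {g : ℕ // InU g} := Nat.finite_of_card_ne_zero (by rw [card_inU]; norm_num)
    let f : X → {g : ℕ // InU g} := fun x => ⟨g x, inS x⟩
    have fi : Function.Injective f := fun x y h => by
      have hxy : g x = g y := congrArg Subtype.val h
      refine mul_inv_eq_one.mp (A.faithful _ fun v hv => ?_)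
      obtain ⟨w, hw, rfl⟩ := hsurj v hv
      rw [← gr _ w hw, gmul, hxy, ← gmul, mul_inv_cancel, g1, app_one w hw]
    have hb := (Nat.bijective_iff_injective_and_card f).mpr ⟨fi, by rw [card_inU, Nat.card_congr e.toEquiv, card_psp hF]⟩
    intro g' hg'
    obtain ⟨x, hx⟩ := hb.2 ⟨g', hg'⟩
    exact ⟨x, congrArg Subtype.val hx⟩
  · right
    have P : SixTwo D := ⟨a, b, c⟩
    obtain ⟨ψ, ε, he, hlt, hadd, hsurj, hinj, hqW, hU⟩ := P.coords hq
    -- the fixed plane is preserved and then fixed
    have Ugen : ∀ n < 81, ∀ v < 256, D.L 0 v = v → D.L 0 (A.act (τ n) v) = A.act (τ n) v := by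
      intro n hn v hv f
      obtain ⟨x, hx, hc⟩ := D.perp n hn
      obtain ⟨i, hi, rfl⟩ : ∃ i < 4, lineP.getD i 0 = x :=
        (show ∀ x ∈ lineP, ∃ i < 4, lineP.getD i 0 = x by decide) x hx
      refine P.fix_eq hi (by norm_num) (A.lt _ v hv) ?_
      show D.L i (D.f n v) = D.f n v
      have h1 : D.f n (D.L i v) = D.L i (D.f n v) := hc v hv
      rw [← h1, P.fix_eq (show 0 < 4 by norm_num) hi hv f]
    have Uall : ∀ x : X, ∀ v < 256, D.L 0 v = v → D.L 0 (A.act x v) = A.act x v := by
      intro x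
      have hx : x ∈ Subgroup.closure (τ '' Set.Iio 81) := gen ▸ Subgroup.mem_top x
      rw [← Subgroup.mem_toSubmonoid, Subgroup.closure_toSubmonoid_of_finite] at hx
      induction hx using Submonoid.closure_induction_left with
      | one => intro v hv f; rw [A.one v hv]; exact f
      | mul_left a ha y _ ih =>
        obtain ⟨n, hn, rfl⟩ := ha
        intro v hv f
        rw [A.mul _ _ v hv]
        exact Ugen n hn _ (A.lt _ v hv) (ih v hv f)
    let U := {v : ℕ // v < 256 ∧ D.L 0 v = v}
    haveI : Finite U := ((Set.finite_Iio 256).subset fun _ h => h.1).to_subtype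
    let toF : X → U → U := fun x v => ⟨A.act x v.1, A.lt x _ v.2.1, Uall x _ v.2.1 v.2.2⟩
    let φ : X →* Equiv.Perm U :=
      { toFun := fun x =>
          ⟨toF x, toF x⁻¹, fun v => Subtype.ext (by
              show A.act x⁻¹ (A.act x v.1) = v.1
              rw [← A.mul _ _ _ v.2.1, inv_mul_cancel, A.one _ v.2.1]),
            fun v => Subtype.ext (by
              show A.act x (A.act x⁻¹ v.1) = v.1
              rw [← A.mul _ _ _ v.2.1, mul_inv_cancel, A.one _ v.2.1])⟩
        map_one' := Equiv.ext fun v => Subtype.ext (A.one _ v.2.1)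
        map_mul' := fun x y => Equiv.ext fun v => Subtype.ext (A.mul x y _ v.2.1) }
    have hker : φ.ker = ⊤ := by
      rcases Subgroup.Normal.eq_bot_or_eq_top (inferInstance : φ.ker.Normal) with h | h
      · exfalso
        have := Nat.card_le_card_of_injective φ ((MonoidHom.ker_eq_bot_iff φ).mp h)
        have hU4 : Nat.card U = 4 := P.sizes.2.2.2
        rw [Nat.card_congr e.toEquiv, card_psp hF, Nat.card_perm, hU4] at this
        norm_num [Nat.factorial] at this
      · exact h
    have fixU : ∀ x, ∀ v < 256, v &&& 63 = 0 → A.act x (ψ v) = ψ v := by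
      intro x v hv h
      have hx : φ x = 1 := MonoidHom.mem_ker.mp (hker ▸ Subgroup.mem_top x)
      exact congrArg Subtype.val (Equiv.ext_iff.mp hx (⟨ψ v, hlt v hv, (hU v hv).mpr h⟩ : U))
    refine ⟨ψ, ε, he, ⟨hlt, hadd, hsurj, hinj⟩, hqW, fixU, fun x v hv => ?_⟩
    have hv' : v < 256 := by omega
    obtain ⟨w, hw, ew⟩ := hsurj _ (A.lt x _ (hlt v hv'))
    refine ⟨w, (perp_low ε he w hw).mpr ?_, ew.symm⟩
    have pr : ∀ u < 256, u &&& 63 = 0 → bq (qW ε) w u = bq (qW ε) v u := by
      intro u hu h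
      have fu := fixU x u hu h
      simp only [bq]
      rw [← hqW _ (xlt hw hu), ← hqW w hw, ← hqW u hu, ← hqW _ (xlt hv' hu), ← hqW v hv', hadd w u hw hu, ew, hadd v u hv' hu,
        A.q_inv x _ (hlt v hv')]
      conv_lhs => rw [← fu, ← A.add x _ _ (hlt v hv') (hlt u hu), A.q_inv x _ (xlt (hlt v hv') (hlt u hu)), A.q_inv x _ (hlt u hu)]
    obtain ⟨p1, p2⟩ := (perp_low ε he v hv').mp hv
    exact ⟨(pr 64 (by norm_num) high_bits.1).trans p1, (pr 128 (by norm_num) high_bits.2).trans p2⟩
where
  scl_mul : ∀ c < 4, ∀ k < 4, m4 k c = 1 → comp (scl k) (scl c) = one := by decide +kernel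
  scl_four : ∀ c < 4, ∀ c' < 4, ∀ k < 4, ∀ k' < 4, m4 k c = 1 → m4 k' c' = 1 →
      ∀ v < 256, smul4 c (smul4 c' (smul4 k (smul4 k' v))) = v := by
    intro c hc c' hc' k hk k' hk' e e' v hv
    have h := List.all_eq_true.mp (List.all_eq_true.mp (List.all_eq_true.mp (List.all_eq_true.mp (List.all_eq_true.mp
      scl_table c (List.mem_range.mpr hc)) c' (List.mem_range.mpr hc')) k (List.mem_range.mpr hk)) k'
      (List.mem_range.mpr hk')) v (List.mem_range.mpr hv)
    rw [e, e'] at h
    simpa using h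
  scl_table : ((List.range 4).all fun c => (List.range 4).all fun c' => (List.range 4).all fun k => (List.range 4).all fun k' =>
      (List.range 256).all fun v => !Nat.beq (m4 k c) 1 || !Nat.beq (m4 k' c') 1 ||
        Nat.beq (smul4 c (smul4 c' (smul4 k (smul4 k' v)))) v) = true := by decide +kernel

end CfsgLib.U42Act
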